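import Groth.Prelude.Def_EtLim
import Groth.Agent.EtMVLib.ExtTools
import Groth.Agent.EtMVLib.HpullApply
import Groth.Agent.EtMVLib.OpenSeq
import Groth.Agent.EtFound.PullStalk

/-! composition of pullback followed by a morphism, on sections and on cohomology -/

universe u

open CategoryTheory CategoryTheory.Limits AlgebraicGeometry Opposite CategoryTheory.Abelian

namespace Groth.Agent.EtContLib

set_option backward.isDefEq.respectTransparency.types false

variable {X Y Z W : Scheme.{u}}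

theorem pfl (f : X ⟶ Y) : PreservesFiniteLimits (EtCoh.pull f) :=
  EtFound.pull_preservesFiniteLimits f

/-- the composite `h⁻¹ F → f⁻¹ G → M` of `α : g⁻¹ F → G` and `β : f⁻¹ G → M` -/
noncomputable def comp2 (f : X ⟶ Y) (g : Y ⟶ Z) (h : X ⟶ Z) (w : f ≫ g = h) {F : EtCoh.Ab Z} {G : EtCoh.Ab Y}
    {M : EtCoh.Ab X} (α : (EtCoh.pull g).obj F ⟶ G) (β : (EtCoh.pull f).obj G ⟶ M) :
    (EtCoh.pull h).obj F ⟶ M :=
  (EtCore.pullCongr w.symm).hom.app F ≫ (EtCore.pullComp f g).hom.app F ≫ (EtCoh.pull f).map α ≫ β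

variable (f : X ⟶ Y) (g : Y ⟶ Z) (h : X ⟶ Z) (w : f ≫ g = h)

theorem comp2_comp_right {F : EtCoh.Ab Z} {G : EtCoh.Ab Y} {M M' : EtCoh.Ab X} (α : (EtCoh.pull g).obj F ⟶ G)
    (β : (EtCoh.pull f).obj G ⟶ M) (c : M ⟶ M') : comp2 f g h w α (β ≫ c) = comp2 f g h w α β ≫ c := by
  simp [comp2]

theorem comp2_comp_mid {F : EtCoh.Ab Z} {G G' : EtCoh.Ab Y} {M : EtCoh.Ab X} (α : (EtCoh.pull g).obj F ⟶ G)
    (b : G ⟶ G') (β : (EtCoh.pull f).obj G' ⟶ M) :
    comp2 f g h w (α ≫ b) β = comp2 f g h w α ((EtCoh.pull f).map b ≫ β) := by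
  simp [comp2]

theorem comp2_comp_left {F F' : EtCoh.Ab Z} {G : EtCoh.Ab Y} {M : EtCoh.Ab X} (a : F' ⟶ F)
    (α : (EtCoh.pull g).obj F ⟶ G) (β : (EtCoh.pull f).obj G ⟶ M) :
    comp2 f g h w ((EtCoh.pull g).map a ≫ α) β = (EtCoh.pull h).map a ≫ comp2 f g h w α β := by
  subst w
  have e : (EtCoh.pull f).map ((EtCoh.pull g).map a) = (EtCoh.pull g ⋙ EtCoh.pull f).map a := rfl
  simp only [comp2, Functor.map_comp, Category.assoc, e]
  rw [← (EtCore.pullComp f g).hom.naturality_assoc a, ← (EtCore.pullCongr rfl).hom.naturality_assoc a]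

theorem homEquiv_comp2 {F : EtCoh.Ab Z} {G : EtCoh.Ab Y} {M : EtCoh.Ab X} (α : (EtCoh.pull g).obj F ⟶ G)
    (β : (EtCoh.pull f).obj G ⟶ M) :
    (EtCoh.pullPushAdj (f ≫ g)).homEquiv _ _ (comp2 f g (f ≫ g) rfl α β) =
      (EtCoh.pullPushAdj g).homEquiv _ _ α ≫
        (EtCoh.push g).map ((EtCoh.pullPushAdj f).homEquiv _ _ β) ≫ (EtCoh.pushComp g f).hom.app M := by
  have h : (EtCoh.pullPushAdj (f ≫ g)).unit.app F ≫
      (EtCoh.push (f ≫ g)).map ((EtCore.pullComp f g).hom.app F) =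
    ((EtCoh.pullPushAdj g).unit.app F ≫ (EtCoh.push g).map ((EtCoh.pullPushAdj f).unit.app _)) ≫
      (EtCoh.pushComp g f).hom.app _ := by
    refine (Adjunction.unit_leftAdjointUniq_hom_app (EtCoh.pullPushAdj (f ≫ g))
      (((EtCoh.pullPushAdj g).comp (EtCoh.pullPushAdj f)).ofNatIsoRight (EtCoh.pushComp g f)) F).trans ?_
    rw [Adjunction.ofNatIsoRight_unit]
    simp
  have hc : comp2 f g (f ≫ g) rfl α β = (EtCore.pullComp f g).hom.app F ≫ (EtCoh.pull f).map α ≫ β := by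
    simp [comp2, EtCore.pullCongr]
  rw [hc, Adjunction.homEquiv_unit, Functor.map_comp, ← Category.assoc, h, Category.assoc]
  have n := (EtCoh.pushComp g f).hom.naturality ((EtCoh.pull f).map α ≫ β)
  refine (whisker_eq _ n.symm).trans ?_
  rw [Functor.comp_map, ← Category.assoc, Category.assoc _ _ ((EtCoh.push g).map _), ← Functor.map_comp]
  have n2 : (EtCoh.pullPushAdj f).unit.app ((EtCoh.pull g).obj F) ≫
      (EtCoh.push f).map ((EtCoh.pull f).map α ≫ β) = α ≫ (EtCoh.pullPushAdj f).homEquiv _ _ β := by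
    rw [Adjunction.homEquiv_unit, Functor.map_comp, ← Category.assoc,
      ← Category.assoc α]
    exact eq_whisker ((EtCoh.pullPushAdj f).unit.naturality α).symm _
  rw [n2, Adjunction.homEquiv_unit (adj := EtCoh.pullPushAdj g), Functor.map_comp]
  simp only [Category.assoc]

/-- the adjunct of `a : f⁻¹ G → M` on sections -/
noncomputable def ev {G : EtCoh.Ab Y} {M : EtCoh.Ab X} (a : (EtCoh.pull f).obj G ⟶ M) (V : Y.Etale)
    (s : G.obj.obj (op V)) : M.obj.obj (op ((EtCoh.bc f).obj V)) :=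
  ((EtCoh.pullPushAdj f).homEquiv G M a).hom.app (op V) s

theorem ev_ext {G : EtCoh.Ab Y} {M : EtCoh.Ab X} {a b : (EtCoh.pull f).obj G ⟶ M}
    (e : ∀ V s, ev f a V s = ev f b V s) : a = b :=
  ((EtCoh.pullPushAdj f).homEquiv G M).injective
    (Sheaf.hom_ext (NatTrans.ext (funext fun V => ConcreteCategory.hom_ext _ _ fun s => e V.unop s)))

theorem ev_natural {G : EtCoh.Ab Y} {M : EtCoh.Ab X} (a : (EtCoh.pull f).obj G ⟶ M) {V V' : Y.Etale}
    (r : V' ⟶ V) (s : G.obj.obj (op V)) :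
    ev f a V' (G.obj.map r.op s) = M.obj.map ((EtCoh.bc f).map r).op (ev f a V s) :=
  NatTrans.naturality_apply ((EtCoh.pullPushAdj f).homEquiv G M a).hom r.op s

theorem ev_comp {G : EtCoh.Ab Y} {M M' : EtCoh.Ab X} (a : (EtCoh.pull f).obj G ⟶ M) (c : M ⟶ M') (V : Y.Etale)
    (s : G.obj.obj (op V)) :
    ev f (a ≫ c) V s = c.hom.app (op ((EtCoh.bc f).obj V)) (ev f a V s) := by
  simp only [ev, Adjunction.homEquiv_naturality_right]
  rfl

theorem ev_map_comp {G G' : EtCoh.Ab Y} {M : EtCoh.Ab X} (a : G' ⟶ G) (b : (EtCoh.pull f).obj G ⟶ M) (V : Y.Etale)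
    (s : G'.obj.obj (op V)) :
    ev f ((EtCoh.pull f).map a ≫ b) V s = ev f b V (a.hom.app (op V) s) := by
  simp only [ev, Adjunction.homEquiv_naturality_left]
  rfl

theorem ev_zero {G : EtCoh.Ab Y} {M : EtCoh.Ab X} (V : Y.Etale) (s : G.obj.obj (op V)) :
    ev f (0 : (EtCoh.pull f).obj G ⟶ M) V s = 0 := by
  have : ((EtCoh.pullPushAdj f).homEquiv G M) 0 = 0 := by simp [Adjunction.homEquiv_unit]
  simp only [ev, this]
  rfl

theorem ev_counit {F : EtCoh.Ab X} (V : Y.Etale) (s : ((EtCoh.push f).obj F).obj.obj (op V)) :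
    ev f ((EtCoh.pullPushAdj f).counit.app F) V s = s := by
  have : (EtCoh.pullPushAdj f).homEquiv _ _ ((EtCoh.pullPushAdj f).counit.app F) = 𝟙 _ := by
    simp [Adjunction.homEquiv_unit]
  simp only [ev, this]
  rfl

/-- the comparison `V ×_Z X ⟶ (V ×_Z Y) ×_Y X` -/
noncomputable def bcMap (V : Z.Etale) :
    (EtCoh.bc h).obj V ⟶ (EtCoh.bc f).obj ((EtCoh.bc g).obj V) :=
  MorphismProperty.Over.homMk
    (pullback.lift (pullback.lift (pullback.fst V.hom h) (pullback.snd V.hom h ≫ f)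
      ((pullback.condition (f := V.hom) (g := h)).trans ((whisker_eq _ w.symm).trans (Category.assoc _ _ _).symm))) (pullback.snd V.hom h)
      (pullback.lift_snd _ _ _)) (pullback.lift_snd _ _ _)

theorem bcMap_fst (V : Z.Etale) :
    (bcMap f g h w V).left ≫ pullback.fst ((EtCoh.bc g).obj V).hom f ≫ pullback.fst V.hom g =
      pullback.fst V.hom h := by
  exact ((Category.assoc _ _ _).symm.trans (eq_whisker (pullback.lift_fst _ _ _) _)).trans (pullback.lift_fst _ _ _)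

theorem hom_bc_ext {S : X.Etale} {V : Z.Etale} (a b : S ⟶ (EtCoh.bc f).obj ((EtCoh.bc g).obj V))
    (e : a.left ≫ pullback.fst ((EtCoh.bc g).obj V).hom f ≫ pullback.fst V.hom g =
      b.left ≫ pullback.fst ((EtCoh.bc g).obj V).hom f ≫ pullback.fst V.hom g) : a = b := by
  have ha : a.left ≫ pullback.snd ((EtCoh.bc g).obj V).hom f = S.hom := MorphismProperty.Over.w a
  have hb : b.left ≫ pullback.snd ((EtCoh.bc g).obj V).hom f = S.hom := MorphismProperty.Over.w b
  refine MorphismProperty.Over.Hom.ext (pullback.hom_ext (pullback.hom_ext ?_ ?_) (ha.trans hb.symm))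
  · exact ((Category.assoc _ _ _).trans e).trans (Category.assoc _ _ _).symm
  · have hc : pullback.fst ((EtCoh.bc g).obj V).hom f ≫ pullback.snd V.hom g =
        pullback.snd ((EtCoh.bc g).obj V).hom f ≫ f := pullback.condition
    exact (((Category.assoc _ _ _).trans (whisker_eq _ hc)).trans
      ((Category.assoc _ _ _).symm.trans (eq_whisker ha f))).trans
      ((((Category.assoc _ _ _).trans (whisker_eq _ hc)).trans
        ((Category.assoc _ _ _).symm.trans (eq_whisker hb f))).symm)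

instance isIso_bcMap (V : Z.Etale) : IsIso (bcMap f g h w V) := by
  subst w
  have : bcMap f g (f ≫ g) rfl V =
      ((MorphismProperty.Over.pullbackComp (P := EtCoh.etaleMP) (Q := ⊤) f g)).hom.app V := by
    refine hom_bc_ext f g _ _ ?_
    refine (bcMap_fst f g (f ≫ g) rfl V).trans ?_
    refine Eq.symm ((Category.assoc _ _ _).trans
      ((whisker_eq _ (pullbackLeftPullbackSndIso_inv_fst V.hom g f)).trans ?_))
    exact (pullback.lift_fst _ _ _).trans (Category.comp_id _)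
  rw [this]
  exact Iso.isIso_hom (((MorphismProperty.Over.pullbackComp (P := EtCoh.etaleMP) (Q := ⊤) f g)).app V)

theorem pushComp_hom_app_apply (M : EtCoh.Ab X) (V : Z.Etale) (s) :
    ((EtCoh.pushComp g f).hom.app M).hom.app (op V) s = M.obj.map (bcMap f g (f ≫ g) rfl V).op s := by
  have : bcMap f g (f ≫ g) rfl V =
      ((MorphismProperty.Over.pullbackComp (P := EtCoh.etaleMP) (Q := ⊤) f g)).hom.app V := by
    refine hom_bc_ext f g _ _ ?_
    refine (bcMap_fst f g (f ≫ g) rfl V).trans ?_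
    refine Eq.symm ((Category.assoc _ _ _).trans
      ((whisker_eq _ (pullbackLeftPullbackSndIso_inv_fst V.hom g f)).trans ?_))
    exact (pullback.lift_fst _ _ _).trans (Category.comp_id _)
  rw [this]
  rfl

theorem ev_comp2 {F : EtCoh.Ab Z} {G : EtCoh.Ab Y} {M : EtCoh.Ab X} (α : (EtCoh.pull g).obj F ⟶ G)
    (β : (EtCoh.pull f).obj G ⟶ M) (V : Z.Etale) (s : F.obj.obj (op V)) :
    ev h (comp2 f g h w α β) V s = M.obj.map (bcMap f g h w V).op (ev f β _ (ev g α V s)) := by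
  subst w
  refine (congrArg (fun m => m.hom.app (op V) s) (homEquiv_comp2 f g α β)).trans ?_
  exact pushComp_hom_app_apply f g M V _

theorem HpullThen_apply [PreservesFiniteLimits (EtCoh.pull f)] (G : EtCoh.Ab Y) {M : EtCoh.Ab X}
    (α : (EtCoh.pull f).obj G ⟶ M) (n : ℕ) (ξ : EtCoh.H Y G n) :
    EtLim.HpullThen f G α n ξ =
      ((Ext.mk₀ (EtCore.pullConst f ℤ).inv).comp (ξ.mapExactFunctor (EtCoh.pull f)) (zero_add n)).comp
        (Ext.mk₀ α) (add_zero n) := rfl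

theorem HF_map_apply {M M' : EtCoh.Ab X} (c : M ⟶ M') (n : ℕ) (ξ : EtCoh.H X M n) :
    (EtCoh.HF X n).map c ξ = Ext.comp ξ (Ext.mk₀ c) (add_zero n) := rfl

/-- maps along `u` compose with maps along `v` -/
theorem HpullThen_comp [PreservesFiniteLimits (EtCoh.pull f)] [PreservesFiniteLimits (EtCoh.pull g)]
    [PreservesFiniteLimits (EtCoh.pull h)] {F : EtCoh.Ab Z} {G : EtCoh.Ab Y} {M : EtCoh.Ab X}
    (α : (EtCoh.pull g).obj F ⟶ G) (β : (EtCoh.pull f).obj G ⟶ M) (n : ℕ) (ξ : EtCoh.H Z F n) :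
    EtLim.HpullThen f G β n (EtLim.HpullThen g F α n ξ) = EtLim.HpullThen h F (comp2 f g h w α β) n ξ := by
  subst w
  have hp := EtMVLib.pullConst_comp (j := g) (w := f ≫ g) (k := f) rfl
  have hθ : (EtMVLib.θ g (f ≫ g) f rfl).hom = (EtCore.pullComp f g).inv := by
    ext P
    simp [EtMVLib.θ, EtCore.pullCongr]
  rw [hθ] at hp
  haveI : PreservesFiniteLimits (EtCoh.pull g ⋙ EtCoh.pull f) := comp_preservesFiniteLimits _ _
  haveI : PreservesFiniteColimits (EtCoh.pull g ⋙ EtCoh.pull f) := comp_preservesFiniteColimits _ _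
  have hc : comp2 f g (f ≫ g) rfl α β = (EtCore.pullComp f g).hom.app F ≫ (EtCoh.pull f).map α ≫ β := by
    simp [comp2, EtCore.pullCongr]
  have hn := EtMVLib.mapExactFunctor_natTrans _ _ (EtCore.pullComp f g).hom ξ
  rw [EtMVLib.mapExactFunctor_functorComp] at hn
  have hkey : (Ext.mk₀ (EtCore.pullConst (f ≫ g) ℤ).inv).comp
      ((ξ.mapExactFunctor (EtCoh.pull (f ≫ g))).comp (Ext.mk₀ ((EtCore.pullComp f g).hom.app F)) (add_zero n))
        (zero_add n) =
      (Ext.mk₀ (EtCore.pullConst f ℤ).inv).comp ((Ext.mk₀ ((EtCoh.pull f).map (EtCore.pullConst g ℤ).inv)).comp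
        ((ξ.mapExactFunctor (EtCoh.pull g)).mapExactFunctor (EtCoh.pull f)) (zero_add n)) (zero_add n) := by
    rw [hn, Ext.mk₀_comp_mk₀_assoc, Ext.mk₀_comp_mk₀_assoc, ← hp]
    congr 2
    refine (Category.assoc _ _ _).trans (whisker_eq _ ((Category.assoc _ _ _).trans ?_))
    exact (whisker_eq _ ((EtCore.pullComp f g).inv_hom_id_app (EtCoh.const Z ℤ))).trans (Category.comp_id _)
  rw [HpullThen_apply, HpullThen_apply, HpullThen_apply, hc]
  simp only [Ext.mapExactFunctor_comp, Ext.mapExactFunctor_mk₀, Ext.comp_assoc_of_third_deg_zero,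
    ← Ext.mk₀_comp_mk₀]
  have := congrArg (fun t => Ext.comp t
    ((Ext.mk₀ ((EtCoh.pull f).map α)).comp (Ext.mk₀ β) (zero_add 0)) (add_zero n)) hkey.symm
  simpa only [Ext.comp_assoc_of_third_deg_zero] using this

theorem HpullThen_map_target [PreservesFiniteLimits (EtCoh.pull f)] {G : EtCoh.Ab Y} {M M' : EtCoh.Ab X}
    (α : (EtCoh.pull f).obj G ⟶ M) (c : M ⟶ M') (n : ℕ) (ξ : EtCoh.H Y G n) :
    EtLim.HpullThen f G (α ≫ c) n ξ = (EtCoh.HF X n).map c (EtLim.HpullThen f G α n ξ) := by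
  rw [HF_map_apply, HpullThen_apply, HpullThen_apply, ← Ext.mk₀_comp_mk₀]
  simp only [Ext.comp_assoc_of_third_deg_zero]

theorem HpullThen_map_source [PreservesFiniteLimits (EtCoh.pull f)] {G G' : EtCoh.Ab Y} {M : EtCoh.Ab X}
    (a : G ⟶ G') (α : (EtCoh.pull f).obj G' ⟶ M) (n : ℕ) (ξ : EtCoh.H Y G n) :
    EtLim.HpullThen f G ((EtCoh.pull f).map a ≫ α) n ξ =
      EtLim.HpullThen f G' α n ((EtCoh.HF Y n).map a ξ) := by
  rw [HF_map_apply, HpullThen_apply, HpullThen_apply]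
  simp only [Ext.mapExactFunctor_comp, Ext.mapExactFunctor_mk₀, Ext.comp_assoc_of_third_deg_zero,
    Ext.mk₀_comp_mk₀]

theorem HpullThen_extClass [PreservesFiniteLimits (EtCoh.pull f)] {S : ShortComplex (EtCoh.Ab Y)}
    (hS : S.ShortExact) {S' : ShortComplex (EtCoh.Ab X)} (hS' : S'.ShortExact)
    (φ : S.map (EtCoh.pull f) ⟶ S') (n : ℕ) (ξ : EtCoh.H Y S.X₃ n) :
    EtLim.HpullThen f S.X₁ φ.τ₁ (n + 1) (Ext.comp ξ hS.extClass rfl) =
      Ext.comp (EtLim.HpullThen f S.X₃ φ.τ₃ n ξ) hS'.extClass rfl := by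
  rw [HpullThen_apply, HpullThen_apply]
  rw [Ext.mapExactFunctor_comp, Ext.mapExactFunctor_extClass,
    ← Ext.comp_assoc (Ext.mk₀ _) (ξ.mapExactFunctor (EtCoh.pull f)) _ (zero_add n) rfl (by omega),
    Ext.comp_assoc_of_third_deg_zero, Ext.comp_assoc_of_second_deg_zero]
  exact congrArg (fun t => Ext.comp _ t rfl)
    (ShortComplex.ShortExact.extClass_naturality (hS.map_of_exact _) hS' φ)

end Groth.Agent.EtContLib
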