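import Groth.Agent.EtContLib.Main
import Mathlib.CategoryTheory.Limits.Connected
import Mathlib.CategoryTheory.Filtered.Final

/-! systems pulled back from one stage -/

universe u

open CategoryTheory CategoryTheory.Limits AlgebraicGeometry Opposite

namespace Groth.Agent.EtContLib

set_option backward.isDefEq.respectTransparency.types false

variable {X Y Z : Scheme.{u}}

/-- the transport `f⁻¹ g⁻¹ F ≅ h⁻¹ F` -/
noncomputable abbrev pullVia (f : X ⟶ Y) (g : Y ⟶ Z) (h : X ⟶ Z) (w : f ≫ g = h) (F : EtCoh.Ab Z) :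
    (EtCoh.pull f).obj ((EtCoh.pull g).obj F) ≅ (EtCoh.pull h).obj F :=
  ((EtCore.pullComp f g).symm ≪≫ EtCore.pullCongr w).app F

theorem comp2_id_pullVia (f : X ⟶ Y) (g : Y ⟶ Z) (h : X ⟶ Z) (w : f ≫ g = h) (F : EtCoh.Ab Z) :
    comp2 f g h w (𝟙 _) (pullVia f g h w F).hom = 𝟙 _ := by
  subst w
  simp [comp2, EtCore.pullCongr]

theorem comp2_id_injective (f : X ⟶ Y) (g : Y ⟶ Z) (h : X ⟶ Z) (w : f ≫ g = h) {F : EtCoh.Ab Z} {M : EtCoh.Ab X}
    {a b : (EtCoh.pull f).obj ((EtCoh.pull g).obj F) ⟶ M}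
    (e : comp2 f g h w (𝟙 _) a = comp2 f g h w (𝟙 _) b) : a = b := by
  subst w
  simpa [comp2, EtCore.pullCongr] using e

variable {ι : Type u} [Preorder ι] (Xs : ιᵒᵖ ⥤ Scheme.{u}) (c : Cone Xs) (i₀ : ι)

/-- the inclusion of the later stages -/
def inclGe : {k : ι // i₀ ≤ k} ⥤ ι := Monotone.functor (f := Subtype.val) (Subtype.mono_coe _)

/-- the system restricted to later stages -/
def geSys : {k : ι // i₀ ≤ k}ᵒᵖ ⥤ Scheme.{u} := (inclGe i₀).op ⋙ Xs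

/-- the cone restricted to later stages -/
def geCone : Cone (geSys Xs i₀) := c.whisker (inclGe i₀).op

variable [IsDirected ι (· ≤ ·)]

theorem isDirected_ge : IsDirected {k : ι // i₀ ≤ k} (· ≤ ·) := ⟨fun a b => by
  obtain ⟨m, ha, hb⟩ := exists_ge_ge a.1 b.1
  exact ⟨⟨m, a.2.trans ha⟩, ha, hb⟩⟩

/-- the restricted cone is a limit -/
noncomputable def isLimitGeCone (hc : IsLimit c) : IsLimit (geCone Xs c i₀) :=
  haveI := isDirected_ge (ι := ι) i₀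
  haveI : Nonempty {k : ι // i₀ ≤ k} := ⟨⟨i₀, le_rfl⟩⟩
  haveI : (inclGe i₀).Final := (Monotone.final_functor_iff (Subtype.mono_coe _)).2 fun j => by
    obtain ⟨m, hj, hi⟩ := exists_ge_ge j i₀
    exact ⟨⟨m, hi⟩, hj⟩
  (Functor.Initial.isLimitWhiskerEquiv (inclGe i₀).op c).symm hc

variable (F₀ : EtCoh.Ab (Xs.obj (op i₀)))

/-- the system of inverse images of one sheaf -/
noncomputable def pullSys : Sys (geSys Xs i₀) (geCone Xs c i₀) where
  F k := (EtCoh.pull (tr Xs k.2)).obj F₀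
  φ k l h := (pullVia (tr (geSys Xs i₀) h) (tr Xs k.2) (tr Xs l.2)
    (tr_tr Xs k.2 (show k.1 ≤ l.1 from h)) F₀).hom
  cocycle k l m hkl hlm := by
    refine comp2_id_injective (tr (geSys Xs i₀) (hkl.trans hlm)) (tr Xs k.2) (tr Xs m.2)
      (tr_tr Xs k.2 (show k.1 ≤ m.1 from hkl.trans hlm)) ?_
    refine (comp2_id_pullVia _ _ _ _ F₀).trans (Eq.symm ?_)
    refine (comp2_assoc (tr (geSys Xs i₀) hlm) (tr (geSys Xs i₀) hkl) (tr Xs k.2)
      (tr (geSys Xs i₀) (hkl.trans hlm)) (tr Xs l.2) (tr Xs m.2) (tr_tr (geSys Xs i₀) hkl hlm)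
      (tr_tr Xs k.2 (show k.1 ≤ l.1 from hkl)) (tr_tr Xs l.2 (show l.1 ≤ m.1 from hlm))
      (tr_tr Xs k.2 (show k.1 ≤ m.1 from hkl.trans hlm)) _ _ _).symm.trans ?_
    exact (congrArg (fun a => comp2 _ _ _ _ a _) (comp2_id_pullVia _ _ _ _ F₀)).trans (comp2_id_pullVia _ _ _ _ F₀)
  Finf := (EtCoh.pull (pr Xs c i₀)).obj F₀
  ψ k := (pullVia (pr (geSys Xs i₀) (geCone Xs c i₀) k) (tr Xs k.2) (pr Xs c i₀) (pr_tr Xs c k.2) F₀).hom
  compat k l h := by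
    refine comp2_id_injective (pr (geSys Xs i₀) (geCone Xs c i₀) k) (tr Xs k.2) (pr Xs c i₀) (pr_tr Xs c k.2) ?_
    refine (comp2_id_pullVia _ _ _ _ F₀).trans (Eq.symm ?_)
    refine (comp2_assoc (pr (geSys Xs i₀) (geCone Xs c i₀) l) (tr (geSys Xs i₀) h) (tr Xs k.2)
      (pr (geSys Xs i₀) (geCone Xs c i₀) k) (tr Xs l.2) (pr Xs c i₀) (pr_tr (geSys Xs i₀) (geCone Xs c i₀) h)
      (tr_tr Xs k.2 (show k.1 ≤ l.1 from h)) (pr_tr Xs c l.2) (pr_tr Xs c k.2) _ _ _).symm.trans ?_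
    exact (congrArg (fun a => comp2 _ _ _ _ a _) (comp2_id_pullVia _ _ _ _ F₀)).trans (comp2_id_pullVia _ _ _ _ F₀)

/-- it is a colimit system -/
noncomputable def pullSysData : (pullSys Xs c i₀ F₀).ColimData :=
  haveI := isDirected_ge (ι := ι) i₀
  haveI : Nonempty {k : ι // i₀ ≤ k} := ⟨⟨i₀, le_rfl⟩⟩
  haveI : IsFiltered {k : ι // i₀ ≤ k} := isFiltered_of_directed_le_nonempty _
  haveI : IsConnected {k : ι // i₀ ≤ k} := IsFiltered.isConnected _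
  { G := (Functor.const _).obj ((EtCoh.pull (pr Xs c i₀)).obj F₀)
    κ := fun _ => 𝟙 _
    natκ := fun _ _ _ => Category.comp_id _
    isColimit := IsColimit.ofIsoColimit (isColimitConstCocone _ _) (Cocone.ext (Iso.refl _) fun _ => Category.comp_id _)
    e := fun k => pullVia (pr (geSys Xs i₀) (geCone Xs c i₀) k) (tr Xs k.2) (pr Xs c i₀) (pr_tr Xs c k.2) F₀
    hψ := fun _ => (Category.comp_id _).symm
    hG := fun _ _ h => (Category.comp_id _).trans ((pullSys Xs c i₀ F₀).compat h) }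

theorem cont_pullSys (haff : ∀ ⦃a b : ιᵒᵖ⦄ (h : a ⟶ b), IsAffineHom (Xs.map h))
    (hqc : ∀ a, CompactSpace ↥(Xs.obj a)) (hqs : ∀ a, QuasiSeparatedSpace ↥(Xs.obj a)) (hc : IsLimit c) (n : ℕ) :
    (pullSys Xs c i₀ F₀).Cont n :=
  haveI := isDirected_ge (ι := ι) i₀
  haveI : Nonempty {k : ι // i₀ ≤ k} := ⟨⟨i₀, le_rfl⟩⟩
  Sys.cont_of_colimData (pullSysData Xs c i₀ F₀) (fun _ _ h => haff _) (isLimitGeCone Xs c i₀ hc)
    (fun _ => hqc _) (fun _ => hqs _) n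

end Groth.Agent.EtContLib
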