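import Groth.Agent.EtContLib.StrictLim
import Groth.Agent.EtFound.Henselian
import Groth.Agent.EtFound.PullStalk
import Groth.Agent.SiteBase.DerivedPrecompAcyclic
import Groth.Agent.SiteBase.DerivedComp
import Groth.Agent.H9Misc.SupportsSS

/-! the stalk of a higher direct image is the cohomology over the strict localisation -/

universe u v

open CategoryTheory CategoryTheory.Limits AlgebraicGeometry Opposite CategoryTheory.Abelian

namespace Groth.Agent.EtContLib

set_option backward.isDefEq.respectTransparency false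
set_option backward.isDefEq.respectTransparency.types false
set_option linter.style.haveILetI false

/-- two colimit cocones on the same system of groups -/
theorem exists_addEquiv_of_colimits {ι : Type u} [Preorder ι] [Nonempty ι] [IsDirected ι (· ≤ ·)]
    {A : ι → Type v} [∀ i, AddCommGroup (A i)] {P Q : Type v} [AddCommGroup P] [AddCommGroup Q]
    (T : ∀ {i j : ι}, i ≤ j → (A i →+ A j)) (π : ∀ i, A i →+ P) (π' : ∀ i, A i →+ Q)
    (hπ : ∀ {i j} (h : i ≤ j) x, π j (T h x) = π i x) (hπ' : ∀ {i j} (h : i ≤ j) x, π' j (T h x) = π' i x)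
    (hs : ∀ p, ∃ i x, π i x = p) (hs' : ∀ q, ∃ i x, π' i x = q)
    (hi : ∀ i x, π i x = 0 → ∃ k, ∃ h : i ≤ k, T h x = 0)
    (hi' : ∀ i x, π' i x = 0 → ∃ k, ∃ h : i ≤ k, T h x = 0) :
    ∃ e : P ≃+ Q, ∀ i x, e (π i x) = π' i x := by
  have key : ∀ i x j y, π i x = π j y → π' i x = π' j y := by
    intro i x j y e
    obtain ⟨m, him, hjm⟩ := exists_ge_ge i j
    obtain ⟨k, hk, hk0⟩ := hi m (T him x - T hjm y) (by rw [map_sub, hπ, hπ, e, sub_self])
    have := congrArg (π' k) hk0
    rwa [hπ', map_sub, hπ', hπ', map_zero, sub_eq_zero] at this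
  choose a b hab using hs
  let f : P →+ Q := AddMonoidHom.mk' (fun p => π' (a p) (b p)) fun p q => by
    obtain ⟨m, h1, h2⟩ := exists_ge_ge (a p) (a q)
    refine (key _ _ m (T h1 (b p) + T h2 (b q)) (by rw [map_add, hπ, hπ, hab, hab, hab])).trans ?_
    rw [map_add, hπ', hπ']
  have hf : ∀ i x, f (π i x) = π' i x := fun i x => key _ _ i x (hab _)
  have hbij : Function.Bijective f := by
    refine ⟨(injective_iff_map_eq_zero f).2 fun p hp => ?_, fun q => ?_⟩
    · obtain ⟨k, hk, hk0⟩ := hi' _ _ hp
      rw [← hab p, ← hπ hk, hk0, map_zero]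
    · obtain ⟨i, x, rfl⟩ := hs' q
      exact ⟨π i x, hf i x⟩
  exact ⟨AddEquiv.ofBijective f hbij, hf⟩

section X

variable {X S : Scheme.{u}} (f : X ⟶ S) {ι : Type u} [Preorder ι] [Nonempty ι] [IsDirected ι (· ≤ ·)]
  (E : ιᵒᵖ ⥤ S.Etale) (c : Cone (stages E)) (h : c.pt ⟶ S) (wh : ∀ i, pr (stages E) c i ≫ (E.obj (op i)).hom = h)

/-- the stages over `X` -/
noncomputable abbrev bcE : ιᵒᵖ ⥤ X.Etale := E ⋙ EtCoh.bc f

/-- the cone over `X` -/
noncomputable def bcCone : Cone (stages (bcE f E)) where
  pt := pullback f h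
  π :=
    { app := fun a => pullback.lift (pullback.snd f h ≫ c.π.app a) (pullback.fst f h)
        ((Category.assoc _ _ _).trans ((whisker_eq _ (wh a.unop)).trans pullback.condition.symm))
      naturality := fun a b m => by
        refine (Category.id_comp _).trans (pullback.hom_ext ?_ ?_)
        · refine (pullback.lift_fst _ _ _).trans (Eq.symm ?_)
          exact (Category.assoc _ _ _).trans ((whisker_eq _ (bc_map_fst f (E.map m))).trans
            ((Category.assoc _ _ _).symm.trans ((eq_whisker (pullback.lift_fst _ _ _) _).trans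
              ((Category.assoc _ _ _).trans (whisker_eq _ (c.w m))))))
        · refine (pullback.lift_snd _ _ _).trans (Eq.symm ?_)
          exact (Category.assoc _ _ _).trans
            ((whisker_eq _ (MorphismProperty.Over.w ((EtCoh.bc f).map (E.map m)))).trans (pullback.lift_snd _ _ _)) }

omit [Nonempty ι] [IsDirected ι (· ≤ ·)] in
theorem bcCone_wh (i : ι) : pr (stages (bcE f E)) (bcCone f E c h wh) i ≫ ((bcE f E).obj (op i)).hom = pullback.fst f h :=
  pullback.lift_snd _ _ _

/-- it is a limit -/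
noncomputable def isLimitBcCone (hc : IsLimit c) : IsLimit (bcCone f E c h wh) :=
  let cS : Cone (stages (bcE f E)) → Cone (stages E) := fun σ =>
    { pt := σ.pt
      π :=
        { app := fun a => σ.π.app a ≫ pullback.fst (E.obj a).hom f
          naturality := fun a b m => by
            refine (Category.id_comp _).trans ((eq_whisker (σ.w m).symm _).trans ?_)
            exact (Category.assoc _ _ _).trans ((whisker_eq _ (bc_map_fst f (E.map m))).trans (Category.assoc _ _ _).symm) } }
  let toX : ∀ σ : Cone (stages (bcE f E)), σ.pt ⟶ X := fun σ =>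
    σ.π.app (op (Classical.arbitrary ι)) ≫ pullback.snd (E.obj _).hom f
  have htoX : ∀ (σ : Cone (stages (bcE f E))) a, σ.π.app a ≫ pullback.snd (E.obj a).hom f = toX σ := by
    intro σ a
    obtain ⟨m, h1, h2⟩ := exists_ge_ge a.unop (Classical.arbitrary ι)
    have hh : ∀ {i j : ι} (hij : i ≤ j),
        σ.π.app (op j) ≫ pullback.snd (E.obj (op j)).hom f = σ.π.app (op i) ≫ pullback.snd (E.obj (op i)).hom f :=
      fun {i j} hij => (whisker_eq _ (MorphismProperty.Over.w ((EtCoh.bc f).map (E.map (homOfLE hij).op))).symm).trans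
        ((Category.assoc _ _ _).symm.trans (eq_whisker (σ.w (homOfLE hij).op) _))
    exact ((hh h1).symm.trans (hh h2))
  have hw : ∀ σ : Cone (stages (bcE f E)), toX σ ≫ f = hc.lift (cS σ) ≫ h := by
    intro σ
    conv_rhs => rw [← wh (Classical.arbitrary ι), ← Category.assoc, hc.fac]
    exact (Category.assoc _ _ _).trans ((whisker_eq _ pullback.condition.symm).trans (Category.assoc _ _ _).symm)
  { lift := fun σ => pullback.lift (toX σ) (hc.lift (cS σ)) (hw σ)
    fac := fun σ a => by
      apply pullback.hom_ext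
      · refine (Category.assoc _ _ _).trans ((whisker_eq _ (pullback.lift_fst _ _ _)).trans ?_)
        exact (Category.assoc _ _ _).symm.trans ((eq_whisker (pullback.lift_snd _ _ _) _).trans (hc.fac (cS σ) a))
      · refine (Category.assoc _ _ _).trans ((whisker_eq _ (pullback.lift_snd _ _ _)).trans ?_)
        exact (pullback.lift_fst _ _ _).trans (htoX σ a).symm
    uniq := fun σ m hm => by
      apply pullback.hom_ext
      · refine Eq.trans ?_ (pullback.lift_fst _ _ _).symm
        exact ((whisker_eq m (pullback.lift_snd _ _ _).symm).trans (Category.assoc _ _ _).symm).trans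
          (eq_whisker (hm (op (Classical.arbitrary ι))) _)
      · refine Eq.trans ?_ (pullback.lift_snd _ _ _).symm
        exact hc.uniq (cS σ) _ fun a => (Category.assoc _ _ _).trans ((whisker_eq m (pullback.lift_fst _ _ _).symm).trans
          ((Category.assoc _ _ _).symm.trans (eq_whisker (hm a) _))) }

omit [Nonempty ι] [IsDirected ι (· ≤ ·)] in
theorem isAffineHom_bcE (hA : ∀ a, IsAffine (E.obj a).left) {a b : ιᵒᵖ} (m : a ⟶ b) :
    IsAffineHom ((stages (bcE f E)).map m) := by
  haveI : IsAffineHom (E.map m).left :=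
    haveI : IsAffine ((𝟭 Scheme.{u}).obj (E.obj a).left) := hA a
    haveI : IsAffine ((𝟭 Scheme.{u}).obj (E.obj b).left) := hA b
    isAffineHom_of_isAffine _
  have sq : IsPullback ((EtCoh.bc f).map (E.map m)).left (pullback.fst (E.obj a).hom f) (pullback.fst (E.obj b).hom f)
      (E.map m).left := by
    refine IsPullback.of_right ?_ (bc_map_fst f (E.map m)) (IsPullback.of_hasPullback (E.obj b).hom f).flip
    have e1 : ((EtCoh.bc f).map (E.map m)).left ≫ pullback.snd (E.obj b).hom f = pullback.snd (E.obj a).hom f :=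
      MorphismProperty.Over.w ((EtCoh.bc f).map (E.map m))
    have e2 : (E.map m).left ≫ (E.obj b).hom = (E.obj a).hom := MorphismProperty.Over.w (E.map m)
    rw [e1, e2]
    exact (IsPullback.of_hasPullback (E.obj a).hom f).flip
  exact MorphismProperty.of_isPullback (P := @IsAffineHom) sq.flip ‹_›

omit [Nonempty ι] [IsDirected ι (· ≤ ·)] in
theorem qcqs_bcE [QuasiCompact f] [QuasiSeparated f] (hA : ∀ a, IsAffine (E.obj a).left) (a : ιᵒᵖ) :
    CompactSpace ↥((stages (bcE f E)).obj a) ∧ QuasiSeparatedSpace ↥((stages (bcE f E)).obj a) := by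
  haveI : IsAffine ((𝟭 Scheme.{u}).obj (E.obj a).left) := hA a
  haveI : QuasiCompact (pullback.fst (E.obj a).hom f) := MorphismProperty.pullback_fst _ _ ‹QuasiCompact f›
  haveI : QuasiSeparated (pullback.fst (E.obj a).hom f) := MorphismProperty.pullback_fst _ _ ‹QuasiSeparated f›
  exact ⟨QuasiCompact.compactSpace_of_compactSpace (pullback.fst (E.obj a).hom f),
    quasiSeparatedSpace_of_quasiSeparated (pullback.fst (E.obj a).hom f)⟩

variable [QuasiCompact f] [QuasiSeparated f] (hA : ∀ a, IsAffine (E.obj a).left) (hc : IsLimit c)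

include wh hA hc in
theorem subsingleton_H_pull_fst (I : EtCoh.Ab X) [Injective I] (n : ℕ) :
    Subsingleton (EtCoh.H (pullback f h) ((EtCoh.pull (pullback.fst f h)).obj I) (n + 1)) :=
  subsingleton_H_pull_injective (bcE f E) (bcCone f E c h wh) (pullback.fst f h) (bcCone_wh f E c h wh) I
    (fun _ _ m => isAffineHom_bcE f E hA m) (fun a => (qcqs_bcE f E hA a).1) (fun a => (qcqs_bcE f E hA a).2)
    (isLimitBcCone f E c h wh hc) n

include wh hA hc in
theorem nonempty_push_sections :
    Nonempty (EtCoh.push f ⋙ EtCoh.pull h ⋙ EtCore.gsec c.pt ≅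
      EtCoh.pull (pullback.fst f h) ⋙ EtCore.gsec (pullback f h)) := by
  have haff : ∀ ⦃a b : ιᵒᵖ⦄ (m : a ⟶ b), IsAffineHom ((stages E).map m) := fun a b m =>
    haveI : IsAffine ((stages E).obj a) := hA a
    haveI : IsAffine ((stages E).obj b) := hA b
    isAffineHom_of_isAffine _
  have hqc : ∀ a, CompactSpace ↥((stages E).obj a) := fun a =>
    haveI : IsAffine ((stages E).obj a) := hA a
    inferInstance
  have hqs : ∀ a, QuasiSeparatedSpace ↥((stages E).obj a) := fun a =>
    haveI : IsAffine ((stages E).obj a) := hA a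
    inferInstance
  have haffX : ∀ ⦃a b : ιᵒᵖ⦄ (m : a ⟶ b), IsAffineHom ((stages (bcE f E)).map m) := fun _ _ m => isAffineHom_bcE f E hA m
  have hX := fun F => limSec_surj (bcE f E) (bcCone f E c h wh) (pullback.fst f h) (bcCone_wh f E c h wh) F haffX
    (fun a => (qcqs_bcE f E hA a).1) (fun a => (qcqs_bcE f E hA a).2) (isLimitBcCone f E c h wh hc)
  have hX0 := fun F => limSec_inj (bcE f E) (bcCone f E c h wh) (pullback.fst f h) (bcCone_wh f E c h wh) F haffX
    (fun a => (qcqs_bcE f E hA a).1) (fun a => (qcqs_bcE f E hA a).2) (isLimitBcCone f E c h wh hc)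
  have main : ∀ F : EtCoh.Ab X, ∃ e : (EtCore.gsec c.pt).obj ((EtCoh.pull h).obj ((EtCoh.push f).obj F)) ≃+
      (EtCore.gsec (pullback f h)).obj ((EtCoh.pull (pullback.fst f h)).obj F),
      ∀ i s, e (limSec E c h wh ((EtCoh.push f).obj F) i s) =
        limSec (bcE f E) (bcCone f E c h wh) (pullback.fst f h) (bcCone_wh f E c h wh) F i s := fun F =>
    exists_addEquiv_of_colimits (A := fun i => ((EtCoh.push f).obj F).obj.obj (op (E.obj (op i))))
      (fun hij => (((EtCoh.push f).obj F).obj.map (E.map (homOfLE hij).op).op).hom)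
      (fun i => limSec E c h wh ((EtCoh.push f).obj F) i)
      (fun i => limSec (bcE f E) (bcCone f E c h wh) (pullback.fst f h) (bcCone_wh f E c h wh) F i)
      (fun hij x => limSec_map E c h wh _ hij x)
      (fun hij x => limSec_map (bcE f E) _ _ _ _ hij x)
      (limSec_surj E c h wh _ haff hqc hqs hc) (hX F) (limSec_inj E c h wh _ haff hqc hqs hc) (hX0 F)
  choose e he using main
  refine ⟨NatIso.ofComponents (fun F => AddEquiv.toAddCommGrpIso (e F)) fun {F G} a => ?_⟩
  refine ConcreteCategory.hom_ext _ _ fun ξ => ?_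
  obtain ⟨i, s, rfl⟩ := limSec_surj E c h wh _ haff hqc hqs hc ξ
  change e G ((EtCore.gsec c.pt).map ((EtCoh.pull h).map ((EtCoh.push f).map a)) (limSec E c h wh ((EtCoh.push f).obj F) i s)) =
    (EtCore.gsec (pullback f h)).map ((EtCoh.pull (pullback.fst f h)).map a) (e F (limSec E c h wh ((EtCoh.push f).obj F) i s))
  rw [← secAt_natural, he, he]
  exact secAt_natural (pullback.fst f h) _ _ (bcCone_wh f E c h wh i) a s

end X

/-- global sections as homomorphisms from the constant sheaf -/
noncomputable def gsecIsoHomFrom (X : Scheme.{u}) :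
    EtCore.gsec X ≅ SpObjSS.homFrom (EtCoh.const X ℤ) :=
  (NatIso.ofComponents (F := SpObjSS.homFrom (EtCoh.const X ℤ)) (G := EtCore.gsec X) (fun F => (AddEquiv.ofBijective
      (AddMonoidHom.mk' (fun a : EtCoh.const X ℤ ⟶ F => (EtCore.constAdj X).homEquiv
        (AddCommGrpCat.of (ULift.{u + 1} ℤ)) F a (ULift.up 1))
        fun a b => congrArg (fun φ : AddCommGrpCat.of (ULift.{u + 1} ℤ) ⟶ (EtCore.gsec X).obj F => φ (ULift.up 1))
          (((EtCore.constAdj X).homAddEquiv (AddCommGrpCat.of (ULift.{u + 1} ℤ)) F).map_add a b))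
      ((Function.Bijective.of_comp_iff _ (Ext.addEquiv₀ (X := EtCoh.const X ℤ) (Y := F)).bijective).1
        (h0Sec_bijective F))).toAddCommGrpIso) fun {F G} a => ConcreteCategory.hom_ext _ _ fun φ =>
      congrArg (fun ψ : AddCommGrpCat.of (ULift.{u + 1} ℤ) ⟶ (EtCore.gsec X).obj G => ψ (ULift.up 1))
        ((EtCore.constAdj X).homEquiv_naturality_right φ a)).symm

/-- the stalk at the closed point is the group of global sections of the inverse image -/
noncomputable def stalkIsoSections (S : Scheme.{u}) (s : S) (R : Type u) [CommRing R] [IsLocalRing R]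
    [Algebra (S.presheaf.stalk s) R] [IsLocalHom (algebraMap (S.presheaf.stalk s) R)]
    [Hensel.IsStrictHenselization (S.presheaf.stalk s) R] [IsSepClosed (IsLocalRing.ResidueField R)] :
    EtCoh.stalk (Hens2.geomPt S s R) ≅
      EtCoh.pull (Hens2.specOf S s R) ⋙ EtCore.gsec (Spec (CommRingCat.of R)) :=
  haveI : HenselianLocalRing R := Hensel.IsStrictHenselization.henselian (R := S.presheaf.stalk s)
  let P := Scheme.pointSmallEtale (EtFound.cpt R)
  haveI : ∀ G : EtCoh.Ab (Spec (CommRingCat.of R)),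
      IsIso (P.toPresheafFiber _ (EtFound.cptTop R) G.obj) := fun G =>
    (ConcreteCategory.isIso_iff_bijective _).2 (EtFound.toPresheafFiber_top_bijective R G.obj)
  let e : EtCore.gsec (Spec (CommRingCat.of R)) ≅ P.sheafFiber (A := AddCommGrpCat.{u + 1}) :=
    NatIso.ofComponents (fun G => asIso (P.toPresheafFiber _ (EtFound.cptTop R) G.obj))
      (fun φ => (P.toPresheafFiber_naturality φ.hom _ _).symm)
  (Functor.isoWhiskerLeft (EtCoh.pull (Hens2.specOf S s R)) e ≪≫
    EtFound.sheafFiberPullIso (A := AddCommGrpCat.{u + 1}) (Hens2.specOf S s R) (EtFound.cpt R)).symm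

theorem nonempty_stalk_Rpush {X S : Scheme.{u}} (f : X ⟶ S)
    [QuasiCompact f] [QuasiSeparated f] (s : S) (R : Type u) [CommRing R] [IsLocalRing R]
    [Algebra (S.presheaf.stalk s) R] [IsLocalHom (algebraMap (S.presheaf.stalk s) R)]
    [Hensel.IsStrictHenselization (S.presheaf.stalk s) R] [IsSepClosed (IsLocalRing.ResidueField R)] (n : ℕ) :
    Nonempty (EtCoh.Rpush f n ⋙ EtCoh.stalk (Hens2.geomPt S s R) ≅
      EtCoh.pull (pullback.fst f (Hens2.specOf S s R)) ⋙ EtCoh.HF (pullback f (Hens2.specOf S s R)) n) := by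
  obtain ⟨ι, _, _, _, E, π, ⟨hc⟩, hA, hwh⟩ := exists_strict_limit S s R
  let c : Cone (stages E) := Cone.mk (Spec (CommRingCat.of R)) π
  let h := Hens2.specOf S s R
  have wh : ∀ i, pr (stages E) c i ≫ (E.obj (op i)).hom = h := fun i => hwh (op i)
  let g := pullback.fst f h
  let P := EtCoh.const (pullback f h) ℤ
  obtain ⟨e0⟩ := nonempty_push_sections f E c h wh hA hc
  let e1 : EtCoh.push f ⋙ EtCoh.stalk (Hens2.geomPt S s R) ≅ EtCoh.pull g ⋙ SpObjSS.homFrom P :=
    Functor.isoWhiskerLeft (EtCoh.push f) (stalkIsoSections S s R) ≪≫ e0 ≪≫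
      Functor.isoWhiskerLeft (EtCoh.pull g) (gsecIsoHomFrom _)
  haveI := pfl g
  haveI : (EtCoh.stalk (Hens2.geomPt S s R)).Additive := Functor.additive_of_preserves_binary_products _
  haveI : (EtCoh.push f ⋙ EtCoh.stalk (Hens2.geomPt S s R)).Additive := inferInstance
  haveI : (EtCoh.pull g ⋙ SpObjSS.homFrom P).Additive := inferInstance
  obtain ⟨e2⟩ := SiteBase.nonempty_rightDerived_precomp_of_acyclic (EtCoh.pull g) (SpObjSS.homFrom P)
    (fun I hI k => by
      haveI := hI
      haveI : Subsingleton (Ext P ((EtCoh.pull g).obj I) (k + 1)) := subsingleton_H_pull_fst f E c h wh hA hc I k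
      haveI : Subsingleton ((Abelian.extFunctorObj P (k + 1)).obj ((EtCoh.pull g).obj I)) := ‹_›
      exact IsZero.of_iso (AddCommGrpCat.isZero_of_subsingleton _)
        ((SuppCore.rightDerivedHomFromNatIso P (k + 1)).app _)) n
  exact ⟨(SiteBase.rightDerivedCompIso (EtCoh.push f) (EtCoh.stalk (Hens2.geomPt S s R)) n).symm ≪≫
    SiteBase.rightDerivedCongr e1 n ≪≫ e2 ≪≫
    Functor.isoWhiskerLeft (EtCoh.pull g) (SuppCore.rightDerivedHomFromNatIso P n)⟩

end Groth.Agent.EtContLib
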