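import Groth.Agent.EtContLib.Pushed
import Mathlib.CategoryTheory.Presentable.Directed

/-! cohomological dimension of a limit -/

universe u

open CategoryTheory CategoryTheory.Limits AlgebraicGeometry Opposite

namespace Groth.Agent.EtContLib

set_option backward.isDefEq.respectTransparency.types false

theorem isTorsion_push_of_isAffineHom {X Y : Scheme.{u}} (f : X ⟶ Y) [IsAffineHom f] {F : EtCoh.Ab X}
    (hF : EtCoh.IsTorsion F) : EtCoh.IsTorsion ((EtCoh.push f).obj F) := by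
  classical
  intro U s x
  obtain ⟨W, g, hW, w, hw⟩ := EtTorLib.exists_affine_nhd U x
  refine ⟨W, g, ⟨w, hw⟩, ?_⟩
  let t : F.obj.obj (op ((EtCoh.bc f).obj W)) := F.obj.map ((EtCoh.bc f).map g).op s
  haveI : IsAffine ((𝟭 Scheme.{u}).obj W.left) := hW
  haveI : IsAffine ((EtCoh.bc f).obj W).left := @isAffine_of_isAffineHom _ _ (pullback.fst W.hom f)
    (MorphismProperty.pullback_fst (P := @IsAffineHom) _ _ ‹_›) _
  choose V r hv hfin using hF ((EtCoh.bc f).obj W) t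
  choose v hv using hv
  obtain ⟨T, hT⟩ := isCompact_univ.elim_finite_subcover (fun z => Set.range (r z).left.base)
    (fun z => by haveI := EtFound.etale_left (r z); exact (r z).left.isOpenMap.isOpen_range)
    (fun z _ => Set.mem_iUnion.2 ⟨z, v z, hv z⟩)
  refine (isOfFinAddOrder_iff_nsmul_eq_zero (x := t)).2
    ⟨∏ z ∈ T, addOrderOf (F.obj.map (r z).op t), Finset.prod_pos fun z _ => (hfin z).addOrderOf_pos, ?_⟩
  refine EtTorLib.eq_zero_of_locally _ fun z => ?_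
  obtain ⟨y, hy, v', hv'⟩ := Set.mem_iUnion₂.1 (hT (Set.mem_univ z))
  refine ⟨V y, r y, v', ?_, hv'⟩
  obtain ⟨k, hk⟩ := Finset.dvd_prod_of_mem (fun z => addOrderOf (F.obj.map (r z).op t)) hy
  rw [map_nsmul, hk, mul_nsmul, addOrderOf_nsmul_eq_zero, nsmul_zero]

theorem cohDimLE_of_directed {ι : Type u} [Preorder ι] [Nonempty ι] [IsDirected ι (· ≤ ·)]
    (Xs : ιᵒᵖ ⥤ Scheme.{u}) (haff : ∀ ⦃a b : ιᵒᵖ⦄ (h : a ⟶ b), IsAffineHom (Xs.map h))
    (hqc : ∀ a, CompactSpace ↥(Xs.obj a)) (hqs : ∀ a, QuasiSeparatedSpace ↥(Xs.obj a))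
    (c : Cone Xs) (hc : IsLimit c) (d : ℕ) (h : ∀ i, EtCoh.CohDimLE (Xs.obj i) d) : EtCoh.CohDimLE c.pt d := by
  intro F hF q hq
  refine subsingleton_of_forall_eq 0 fun ξ => ?_
  obtain ⟨i, x, hx⟩ := (Sys.cont_pushed (Xs := Xs) (c := c) haff hqc hqs hc q F).1 ξ
  haveI := isCofiltered_op (ι := ι)
  haveI : ∀ {a b : ιᵒᵖ} (h : a ⟶ b), IsAffineHom (Xs.map h) := fun h => haff h
  haveI : IsAffineHom (pr Xs c i) := isAffineHom_π_app Xs c hc (op i)
  have hx0 : x = 0 := (h (op i) _ (isTorsion_push_of_isAffineHom (pr Xs c i) hF) q hq).elim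
    (x : EtCoh.H (Xs.obj (op i)) ((EtCoh.push (pr Xs c i)).obj F) q) 0
  rw [← hx, hx0, map_zero]
  rfl

theorem cohDimLE_of_cofiltered {I : Type u} [SmallCategory I] [IsCofiltered I] (D : I ⥤ Scheme.{u})
    (haff : ∀ {i j : I} (a : i ⟶ j), IsAffineHom (D.map a)) (hqc : ∀ i, CompactSpace (D.obj i))
    (hqs : ∀ i, QuasiSeparatedSpace (D.obj i)) (c : Cone D) (hc : IsLimit c) (d : ℕ)
    (h : ∀ i, EtCoh.CohDimLE (D.obj i) d) : EtCoh.CohDimLE c.pt d := by
  obtain ⟨α, _, _, _, F, _⟩ := IsFiltered.exists_directed Iᵒᵖ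
  exact cohDimLE_of_directed (F.leftOp ⋙ D) (fun _ _ a => haff _) (fun _ => hqc _) (fun _ => hqs _)
    (c.whisker F.leftOp) ((Functor.Initial.isLimitWhiskerEquiv F.leftOp c).symm hc) d (fun _ => h _)

end Groth.Agent.EtContLib
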