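import Groth.Agent.EtContLib.PullSys
import Groth.Agent.EtMVLib.PullSec
import Groth.Agent.EtFound.ExtZeroExact
import Groth.Agent.EtFound.JContGen

/-! sections of the inverse image on a limit of étale schemes -/

universe u

open CategoryTheory CategoryTheory.Limits AlgebraicGeometry Opposite CategoryTheory.Abelian

namespace Groth.Agent.EtContLib

set_option backward.isDefEq.respectTransparency false
set_option backward.isDefEq.respectTransparency.types false
set_option linter.style.haveILetI false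

variable {X Y Z : Scheme.{u}}

/-- `compEtale q ⊣ bc q` -/
noncomputable def compBc (q : X ⟶ Z) [AlgebraicGeometry.Etale q] : EtShriek.compEtale q ⊣ EtCoh.bc q :=
  MorphismProperty.Over.mapPullbackAdj EtCoh.etaleMP ⊤ q (inferInstanceAs (AlgebraicGeometry.Etale q)) trivial

/-- restriction along an étale morphism is the inverse image -/
noncomputable def etaleRestrIso (q : X ⟶ Z) [AlgebraicGeometry.Etale q] [EtShriek.JCont q] :
    EtShriek.restrAlong q ≅ EtCoh.pull q :=
  Adjunction.leftAdjointUniq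
    ((compBc q).sheafPushforwardContinuous
      (E := AddCommGrpCat.{u + 1}) X.smallEtaleTopology Z.smallEtaleTopology)
    (EtCoh.pullPushAdj q)

/-- restriction along an étale morphism preserves injective sheaves -/
theorem injective_pull_etale (q : X ⟶ Z) [AlgebraicGeometry.Etale q] (I : EtCoh.Ab Z) [Injective I] :
    Injective ((EtCoh.pull q).obj I) := by
  haveI := EtFound.jCont q
  haveI := EtFound.extZero_preservesFiniteLimits q
  haveI : (EtShriek.extZero q).PreservesMonomorphisms := inferInstance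
  exact Injective.injective_of_adjoint ((EtShriek.extZeroAdj q).ofNatIsoRight (etaleRestrIso q)) I

/-- a morphism to an étale scheme as a section of its base change -/
noncomputable def secMap (q : X ⟶ Z) (V : Z.Etale) (t : X ⟶ V.left) (w : t ≫ V.hom = q) :
    EtCoh.top X ⟶ (EtCoh.bc q).obj V :=
  MorphismProperty.Over.homMk (pullback.lift t (𝟙 X) (w.trans (Category.id_comp q).symm))
    (pullback.lift_snd _ _ _)

theorem secMap_fst (q : X ⟶ Z) (V : Z.Etale) (t : X ⟶ V.left) (w : t ≫ V.hom = q) :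
    (secMap q V t w).left ≫ pullback.fst V.hom q = t := pullback.lift_fst _ _ _

theorem secMap_snd (q : X ⟶ Z) (V : Z.Etale) (t : X ⟶ V.left) (w : t ≫ V.hom = q) :
    (secMap q V t w).left ≫ pullback.snd V.hom q = 𝟙 X := pullback.lift_snd _ _ _

/-- a section over an étale scheme restricted along a morphism to it -/
noncomputable def secAt (q : X ⟶ Z) (V : Z.Etale) (t : X ⟶ V.left) (w : t ≫ V.hom = q) (F : EtCoh.Ab Z) :
    F.obj.obj (op V) →+ (EtCore.gsec X).obj ((EtCoh.pull q).obj F) :=
  AddMonoidHom.mk' (fun s => ((EtCoh.pull q).obj F).obj.map (secMap q V t w).op (ev q (𝟙 _) V s))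
    (fun a b => by rw [ev_add, map_add])

theorem secAt_apply (q : X ⟶ Z) (V : Z.Etale) (t : X ⟶ V.left) (w : t ≫ V.hom = q) (F : EtCoh.Ab Z)
    (s : F.obj.obj (op V)) :
    secAt q V t w F s = ((EtCoh.pull q).obj F).obj.map (secMap q V t w).op (ev q (𝟙 _) V s) := rfl

theorem secAt_map (q : X ⟶ Z) {V V' : Z.Etale} (r : V' ⟶ V) (t : X ⟶ V'.left) (w : t ≫ V'.hom = q)
    (t' : X ⟶ V.left) (w' : t' ≫ V.hom = q) (e : t ≫ r.left = t') (F : EtCoh.Ab Z) (s : F.obj.obj (op V)) :
    secAt q V' t w F (F.obj.map r.op s) = secAt q V t' w' F s := by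
  have em : secMap q V' t w ≫ (EtCoh.bc q).map r = secMap q V t' w' := by
    refine MorphismProperty.Over.Hom.ext (pullback.hom_ext ?_ ?_)
    · refine (Category.assoc _ _ _).trans ((whisker_eq _ (bc_map_fst q r)).trans ?_)
      refine ((Category.assoc _ _ _).symm.trans (eq_whisker (secMap_fst q V' t w) _)).trans ?_
      exact e.trans (secMap_fst q V t' w').symm
    · exact ((Category.assoc _ _ _).trans ((whisker_eq _ (MorphismProperty.Over.w ((EtCoh.bc q).map r))).trans
        (secMap_snd q V' t w))).trans (secMap_snd q V t' w').symm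
  rw [secAt_apply, secAt_apply, ev_natural, ← Functor.map_comp_apply, ← op_comp, em]

theorem secAt_natural (q : X ⟶ Z) (V : Z.Etale) (t : X ⟶ V.left) (w : t ≫ V.hom = q) {F G : EtCoh.Ab Z}
    (a : F ⟶ G) (s : F.obj.obj (op V)) :
    secAt q V t w G (a.hom.app (op V) s) = (EtCore.gsec X).map ((EtCoh.pull q).map a) (secAt q V t w F s) := by
  have h : ev q (𝟙 _) V (a.hom.app (op V) s) =
      ((EtCoh.pull q).map a).hom.app (op ((EtCoh.bc q).obj V)) (ev q (𝟙 _) V s) := by
    rw [← ev_map_comp, ← ev_comp, Category.comp_id, Category.id_comp]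
  rw [secAt_apply, secAt_apply, h]
  exact (NatTrans.naturality_apply ((EtCoh.pull q).map a).hom (secMap q V t w).op _).symm

/-- pulling back further -/
theorem pullVia_pullSec_secAt (f : X ⟶ Y) (g : Y ⟶ Z) (h : X ⟶ Z) (w : f ≫ g = h) (V : Z.Etale)
    (t : Y ⟶ V.left) (wt : t ≫ V.hom = g) (wh : (f ≫ t) ≫ V.hom = h) (F : EtCoh.Ab Z) (s : F.obj.obj (op V)) :
    (EtCore.gsec X).map (pullVia f g h w F).hom
        ((EtMVLib.pullSec f).app ((EtCoh.pull g).obj F) (secAt g V t wt F s)) =
      secAt h V (f ≫ t) wh F s := by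
  let M := (EtCoh.pull h).obj F
  let α := (pullVia f g h w F).hom
  have h1 : (EtCore.gsec X).map α ((EtMVLib.pullSec f).app ((EtCoh.pull g).obj F) (secAt g V t wt F s)) =
      M.obj.map (EtCore.bcTopIso f).inv.op (ev f α (EtCoh.top Y) (secAt g V t wt F s)) := by
    rw [← Category.id_comp α, ev_comp, Category.id_comp]
    refine Eq.trans ?_ (NatTrans.naturality_apply α.hom (EtCore.bcTopIso f).inv.op _)
    have e : (EtCoh.pullPushAdj f).homEquiv _ _ (𝟙 ((EtCoh.pull f).obj ((EtCoh.pull g).obj F))) =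
        (EtCoh.pullPushAdj f).unit.app _ := Adjunction.homEquiv_id _ _
    simp only [ev, e]
    rfl
  refine h1.trans ?_
  rw [secAt_apply, secAt_apply, ev_natural, ← Functor.map_comp_apply]
  have h2 : ev h (𝟙 _) V s = M.obj.map (bcMap f g h w V).op (ev f α ((EtCoh.bc g).obj V) (ev g (𝟙 _) V s)) :=
    (congrArg (fun m => ev h m V s) (comp2_id_pullVia f g h w F)).symm.trans (ev_comp2 f g h w _ _ V s)
  rw [h2, ← Functor.map_comp_apply]
  have em : (EtCore.bcTopIso f).inv ≫ (EtCoh.bc f).map (secMap g V t wt) =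
      secMap h V (f ≫ t) wh ≫ bcMap f g h w V := by
    refine hom_bc_ext f g _ _ ?_
    have eL : (EtCore.bcTopIso f).inv.left ≫ pullback.fst (EtCoh.top Y).hom f = f := by
      have h3 : (EtCore.bcTopIso f).inv.left ≫ pullback.snd (EtCoh.top Y).hom f = 𝟙 X :=
        MorphismProperty.Over.w _
      have hc : pullback.fst (EtCoh.top Y).hom f = pullback.snd (EtCoh.top Y).hom f ≫ f :=
        (Category.comp_id _).symm.trans (pullback.condition (f := (EtCoh.top Y).hom) (g := f))
      rw [hc]
      exact ((Category.assoc _ _ _).symm.trans (eq_whisker h3 _)).trans (Category.id_comp _)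
    refine (Category.assoc _ _ _).trans ((whisker_eq _ (((Category.assoc _ _ _).symm.trans
      (eq_whisker (bc_map_fst f (secMap g V t wt)) _)).trans
      ((Category.assoc _ _ _).trans (whisker_eq _ (secMap_fst g V t wt))))).trans ?_)
    refine ((Category.assoc _ _ _).symm.trans (eq_whisker eL _)).trans ?_
    exact ((secMap_fst h V (f ≫ t) wh).symm.trans (whisker_eq _ (bcMap_fst f g h w V).symm)).trans
      (Category.assoc _ _ _).symm
  rw [← op_comp, em, op_comp]

theorem bijective_secAt_self (q : X ⟶ Z) (V : Z.Etale) (t : X ⟶ V.left) [IsIso t] (w : t ≫ V.hom = q)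
    (F : EtCoh.Ab Z) : Function.Bijective (secAt q V t w F) := by
  haveI : AlgebraicGeometry.Etale V.hom := V.prop
  haveI : AlgebraicGeometry.Etale q := w ▸ (inferInstance : AlgebraicGeometry.Etale (t ≫ V.hom))
  haveI := EtFound.jCont q
  let a := compBc q
  let W := (EtShriek.compEtale q).obj (EtCoh.top X)
  have hW : W.hom = q := Category.id_comp q
  let r : W ⟶ V := MorphismProperty.Over.homMk t (w.trans hW.symm)
  haveI : IsIso r := by
    haveI : IsIso ((Scheme.Etale.forget Z ⋙ Over.forget Z).map r) := inferInstanceAs (IsIso t)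
    exact isIso_of_reflects_iso r (Scheme.Etale.forget Z ⋙ Over.forget Z)
  have hmap : Function.Bijective (F.obj.map r.op) := ConcreteCategory.bijective_of_isIso _
  have h1 : (secAt q V t w F : F.obj.obj (op V) → _) =
      (secAt q W (𝟙 X) ((Category.id_comp _).trans hW) F) ∘ F.obj.map r.op :=
    funext fun s => (secAt_map q r (𝟙 X) ((Category.id_comp _).trans hW) t w (Category.id_comp t) F s).symm
  rw [h1]
  refine Function.Bijective.comp ?_ hmap
  let ρ := (etaleRestrIso q).hom.app F
  have h2 : ∀ s, secAt q W (𝟙 X) ((Category.id_comp _).trans hW) F s = ρ.hom.app (op (EtCoh.top X)) s := by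
    intro s
    have hu := Adjunction.unit_leftAdjointUniq_hom_app
      (a.sheafPushforwardContinuous (E := AddCommGrpCat.{u + 1}) X.smallEtaleTopology Z.smallEtaleTopology)
      (EtCoh.pullPushAdj q) F
    have hev : ev q (𝟙 _) W s = ρ.hom.app (op ((EtCoh.bc q).obj W)) (F.obj.map (a.counit.app W).op s) := by
      rw [ev, Adjunction.homEquiv_id, ← hu]
      rfl
    rw [secAt_apply, hev, ← NatTrans.naturality_apply]
    refine congrArg (ρ.hom.app (op (EtCoh.top X))) ?_
    refine (Functor.map_comp_apply F.obj _ _ s).symm.trans ?_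
    have hs : secMap q W (𝟙 X) ((Category.id_comp _).trans hW) = a.unit.app (EtCoh.top X) := by
      refine MorphismProperty.Over.Hom.ext (pullback.hom_ext ?_ ?_)
      · exact (pullback.lift_fst _ _ _).trans (pullback.lift_fst _ _ _).symm
      · exact (pullback.lift_snd _ _ _).trans (pullback.lift_snd _ _ _).symm
    have e : (EtShriek.compEtale q).map (secMap q W (𝟙 X) ((Category.id_comp _).trans hW)) ≫ a.counit.app W = 𝟙 W := by
      rw [hs]
      exact a.left_triangle_components _
    exact (congrArg (fun m : W ⟶ W => F.obj.map m.op s) e).trans (congr($(F.obj.map_id (op W)) s))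
  rw [funext h2]
  exact ConcreteCategory.bijective_of_isIso (ρ.hom.app (op (EtCoh.top X)))

section H0

/-- global sections from classes in degree zero -/
noncomputable def h0Sec (F : EtCoh.Ab X) (x : EtCoh.H X F 0) : (EtCore.gsec X).obj F :=
  (EtCore.constAdj X).homEquiv (AddCommGrpCat.of (ULift.{u + 1} ℤ)) F
    ((Ext.addEquiv₀ (X := EtCoh.const X ℤ) (Y := F)) x) (ULift.up 1)

theorem h0Sec_mk₀ (F : EtCoh.Ab X) (a : EtCoh.const X ℤ ⟶ F) :
    h0Sec F (Ext.mk₀ a) = (EtCore.constAdj X).homEquiv (AddCommGrpCat.of (ULift.{u + 1} ℤ)) F a (ULift.up 1) := by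
  have : (Ext.addEquiv₀ (X := EtCoh.const X ℤ) (Y := F)) (Ext.mk₀ a) = a :=
    Ext.addEquiv₀.apply_symm_apply a
  unfold h0Sec
  rw [this]

theorem h0Sec_bijective (F : EtCoh.Ab X) : Function.Bijective (h0Sec F) := by
  refine Function.Bijective.comp (g := fun a => (EtCore.constAdj X).homEquiv
    (AddCommGrpCat.of (ULift.{u + 1} ℤ)) F a (ULift.up 1)) ?_ (Ext.addEquiv₀ (X := EtCoh.const X ℤ) (Y := F)).bijective
  refine Function.Bijective.comp (g := fun φ : AddCommGrpCat.of (ULift.{u + 1} ℤ) ⟶ (EtCore.gsec X).obj F =>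
    φ (ULift.up 1)) ?_ ((EtCore.constAdj X).homEquiv _ F).bijective
  refine ⟨fun φ ψ h => ?_, fun s => ⟨AddCommGrpCat.ofHom ((zmultiplesHom _ s).comp (AddEquiv.ulift : ULift.{u + 1} ℤ ≃+ ℤ).toAddMonoidHom), one_zsmul s⟩⟩
  ext x
  obtain ⟨m⟩ := x
  rw [show (ULift.up m : ULift.{u + 1} ℤ) = m • ULift.up 1 by ext; simp]
  exact (map_zsmul φ.hom m _).trans ((congrArg (m • ·) h).trans (map_zsmul ψ.hom m _).symm)

theorem h0Sec_zero (F : EtCoh.Ab X) : h0Sec F 0 = 0 := by
  have e := ((EtCore.constAdj X).homAddEquiv (AddCommGrpCat.of (ULift.{u + 1} ℤ)) F).map_zero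
  simp only [h0Sec, map_zero]
  exact congrArg (fun φ : AddCommGrpCat.of (ULift.{u + 1} ℤ) ⟶ (EtCore.gsec X).obj F => φ (ULift.up 1)) e

theorem h0Sec_HpullThen (f : X ⟶ Y) {G : EtCoh.Ab Y} {M : EtCoh.Ab X} (α : (EtCoh.pull f).obj G ⟶ M)
    (x : EtCoh.H Y G 0) :
    h0Sec M (EtLim.HpullThen f G α 0 x) = (EtCore.gsec X).map α ((EtMVLib.pullSec f).app G (h0Sec G x)) := by
  haveI := pfl f
  obtain ⟨a, rfl⟩ := (Ext.mk₀_bijective _ _).2 x
  rw [HpullThen_apply, Ext.mapExactFunctor_mk₀, Ext.mk₀_comp_mk₀, Ext.mk₀_comp_mk₀, h0Sec_mk₀, h0Sec_mk₀,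
    Category.assoc, Adjunction.homEquiv_naturality_right, EtMVLib.homEquiv_pullConst_inv, Category.assoc,
    Functor.map_comp]
  have hn := (EtMVLib.pullSec f).naturality a
  simp only [Functor.comp_map] at hn
  rw [← Category.assoc ((EtMVLib.pullSec f).app _), ← hn, Adjunction.homEquiv_unit]
  rfl

end H0

section Base

variable {ι : Type u} [Preorder ι] {Z : Scheme.{u}} (E : ιᵒᵖ ⥤ Z.Etale)

/-- the underlying schemes -/
noncomputable abbrev stages : ιᵒᵖ ⥤ Scheme.{u} := E ⋙ Scheme.Etale.forget Z ⋙ Over.forget Z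

theorem tr_hom {i j : ι} (h : i ≤ j) : tr (stages E) h ≫ (E.obj (op i)).hom = (E.obj (op j)).hom :=
  MorphismProperty.Over.w (E.map (homOfLE h).op)

variable (c : Cone (stages E)) (h : c.pt ⟶ Z) (wh : ∀ i, pr (stages E) c i ≫ (E.obj (op i)).hom = h)
  (F : EtCoh.Ab Z)

/-- the system of inverse images of a sheaf on the base -/
noncomputable def baseSys : Sys (stages E) c where
  F i := (EtCoh.pull (E.obj (op i)).hom).obj F
  φ i j hij := (pullVia (tr (stages E) hij) (E.obj (op i)).hom (E.obj (op j)).hom (tr_hom E hij) F).hom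
  cocycle i j k hij hjk := by
    refine comp2_id_injective (tr (stages E) (hij.trans hjk)) (E.obj (op i)).hom (E.obj (op k)).hom
      (tr_hom E (hij.trans hjk)) ?_
    refine (comp2_id_pullVia _ _ _ _ F).trans (Eq.symm ?_)
    refine (comp2_assoc (tr (stages E) hjk) (tr (stages E) hij) (E.obj (op i)).hom
      (tr (stages E) (hij.trans hjk)) (E.obj (op j)).hom (E.obj (op k)).hom (tr_tr (stages E) hij hjk)
      (tr_hom E hij) (tr_hom E hjk) (tr_hom E (hij.trans hjk)) _ _ _).symm.trans ?_
    exact (congrArg (fun a => comp2 _ _ _ _ a _) (comp2_id_pullVia _ _ _ _ F)).trans (comp2_id_pullVia _ _ _ _ F)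
  Finf := (EtCoh.pull h).obj F
  ψ i := (pullVia (pr (stages E) c i) (E.obj (op i)).hom h (wh i) F).hom
  compat i j hij := by
    refine comp2_id_injective (pr (stages E) c i) (E.obj (op i)).hom h (wh i) ?_
    refine (comp2_id_pullVia _ _ _ _ F).trans (Eq.symm ?_)
    refine (comp2_assoc (pr (stages E) c j) (tr (stages E) hij) (E.obj (op i)).hom
      (pr (stages E) c i) (E.obj (op j)).hom h (pr_tr (stages E) c hij) (tr_hom E hij) (wh j) (wh i) _ _ _).symm.trans ?_
    exact (congrArg (fun a => comp2 _ _ _ _ a _) (comp2_id_pullVia _ _ _ _ F)).trans (comp2_id_pullVia _ _ _ _ F)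

variable [Nonempty ι] [IsDirected ι (· ≤ ·)]

/-- it is a colimit system -/
noncomputable def baseSysData : (baseSys E c h wh F).ColimData :=
  haveI : IsFiltered ι := isFiltered_of_directed_le_nonempty _
  haveI : IsConnected ι := IsFiltered.isConnected _
  { G := (Functor.const _).obj ((EtCoh.pull h).obj F)
    κ := fun _ => 𝟙 _
    natκ := fun _ _ _ => Category.comp_id _
    isColimit := IsColimit.ofIsoColimit (isColimitConstCocone _ _) (Cocone.ext (Iso.refl _) fun _ => Category.comp_id _)
    e := fun k => pullVia (pr (stages E) c k) (E.obj (op k)).hom h (wh k) F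
    hψ := fun _ => (Category.comp_id _).symm
    hG := fun _ _ hij => (Category.comp_id _).trans ((baseSys E c h wh F).compat hij) }

variable (haff : ∀ ⦃a b : ιᵒᵖ⦄ (m : a ⟶ b), IsAffineHom ((stages E).map m))
  (hqc : ∀ a, CompactSpace ↥((stages E).obj a)) (hqs : ∀ a, QuasiSeparatedSpace ↥((stages E).obj a)) (hc : IsLimit c)

include haff hqc hqs hc in
theorem cont_baseSys (n : ℕ) : (baseSys E c h wh F).Cont n :=
  Sys.cont_of_colimData (baseSysData E c h wh F) haff hc hqc hqs n

include wh haff hqc hqs hc in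
/-- higher cohomology of the inverse image of an injective sheaf vanishes on the limit -/
theorem subsingleton_H_pull_injective [Injective F] (n : ℕ) :
    Subsingleton (EtCoh.H c.pt ((EtCoh.pull h).obj F) (n + 1)) := by
  refine subsingleton_of_forall_eq 0 fun ξ => ?_
  obtain ⟨i, x, hx⟩ := (cont_baseSys E c h wh F haff hqc hqs hc (n + 1)).1 ξ
  haveI : AlgebraicGeometry.Etale (E.obj (op i)).hom := (E.obj (op i)).prop
  haveI := EtFound.jCont (E.obj (op i)).hom
  haveI : Injective ((baseSys E c h wh F).F i) :=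
    injective_pull_etale (E.obj (op i)).hom F
  have h0 : x = 0 := Ext.eq_zero_of_injective x
  exact hx.symm.trans ((congrArg _ h0).trans (map_zero _))

/-- sections of a stage seen on the limit -/
noncomputable abbrev limSec (i : ι) : F.obj.obj (op (E.obj (op i))) →+ (EtCore.gsec c.pt).obj ((EtCoh.pull h).obj F) :=
  secAt h (E.obj (op i)) (pr (stages E) c i) (wh i) F

omit [Nonempty ι] [IsDirected ι (· ≤ ·)] in
theorem limSec_map {i j : ι} (hij : i ≤ j) (s : F.obj.obj (op (E.obj (op i)))) :
    limSec E c h wh F j (F.obj.map (E.map (homOfLE hij).op).op s) = limSec E c h wh F i s :=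
  secAt_map h (E.map (homOfLE hij).op) _ _ _ _ (pr_tr (stages E) c hij) F s

include haff hqc hqs hc in
theorem limSec_surj (ξ : (EtCore.gsec c.pt).obj ((EtCoh.pull h).obj F)) :
    ∃ i s, limSec E c h wh F i s = ξ := by
  obtain ⟨x, rfl⟩ := (h0Sec_bijective _).2 ξ
  obtain ⟨i, y, rfl⟩ := (cont_baseSys E c h wh F haff hqc hqs hc 0).1 x
  obtain ⟨s, hs⟩ := (bijective_secAt_self (E.obj (op i)).hom (E.obj (op i)) (𝟙 _) (Category.id_comp _) F).2
    (h0Sec ((EtCoh.pull (E.obj (op i)).hom).obj F) y)
  refine ⟨i, s, Eq.symm ((h0Sec_HpullThen (pr (stages E) c i) _ y).trans ?_)⟩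
  refine (congrArg (fun z => (EtCore.gsec c.pt).map ((baseSys E c h wh F).ψ i)
    ((EtMVLib.pullSec (pr (stages E) c i)).app ((baseSys E c h wh F).F i) z)) hs.symm).trans ?_
  refine (pullVia_pullSec_secAt (pr (stages E) c i) (E.obj (op i)).hom h (wh i) (E.obj (op i)) (𝟙 _)
    (Category.id_comp _) ((eq_whisker (Category.comp_id _) _).trans (wh i)) F s).trans ?_
  congr 2

include haff hqc hqs hc in
theorem limSec_inj (i : ι) (s : F.obj.obj (op (E.obj (op i)))) (hs : limSec E c h wh F i s = 0) :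
    ∃ (k : ι) (hk : i ≤ k), F.obj.map (E.map (homOfLE hk).op).op s = 0 := by
  let b := fun l => bijective_secAt_self (E.obj (op l)).hom (E.obj (op l)) (𝟙 _) (Category.id_comp _) F
  obtain ⟨y, hy⟩ := (h0Sec_bijective _).2
    (secAt (E.obj (op i)).hom (E.obj (op i)) (𝟙 _) (Category.id_comp _) F s)
  have h0 : ((baseSys E c h wh F).H 0).π i y = 0 := by
    apply (h0Sec_bijective _).1
    refine ((h0Sec_HpullThen (pr (stages E) c i) _ y).trans ?_).trans (h0Sec_zero _).symm
    refine ((congrArg (fun z => (EtCore.gsec c.pt).map ((baseSys E c h wh F).ψ i)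
      ((EtMVLib.pullSec (pr (stages E) c i)).app ((baseSys E c h wh F).F i) z)) hy).trans ?_)
    refine ((pullVia_pullSec_secAt (pr (stages E) c i) (E.obj (op i)).hom h (wh i) (E.obj (op i)) (𝟙 _)
      (Category.id_comp _) ((eq_whisker (Category.comp_id _) _).trans (wh i)) F s).trans ?_).trans hs
    congr 2
  obtain ⟨k, hk, hk0⟩ := (cont_baseSys E c h wh F haff hqc hqs hc 0).2 i y h0
  refine ⟨k, hk, (b k).1 ?_⟩
  rw [map_zero]
  refine Eq.trans ?_ ((congrArg (h0Sec _) hk0).trans (h0Sec_zero _))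
  refine Eq.symm ((h0Sec_HpullThen (tr (stages E) hk) _ y).trans ?_)
  refine (congrArg (fun z => (EtCore.gsec _).map ((baseSys E c h wh F).φ hk)
    ((EtMVLib.pullSec (tr (stages E) hk)).app ((baseSys E c h wh F).F i) z)) hy).trans ?_
  refine (pullVia_pullSec_secAt (tr (stages E) hk) (E.obj (op i)).hom (E.obj (op k)).hom (tr_hom E hk)
    (E.obj (op i)) (𝟙 _) (Category.id_comp _) ((eq_whisker (Category.comp_id _) _).trans (tr_hom E hk)) F s).trans ?_
  exact (secAt_map (E.obj (op k)).hom (E.map (homOfLE hk).op) (𝟙 _) (Category.id_comp _) _ _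
    ((Category.id_comp _).trans (Category.comp_id _).symm) F s).symm

end Base

end Groth.Agent.EtContLib
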