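import Groth.Agent.EtContLib.Locally
import Groth.Agent.EtFound.PullGerm
import Groth.Agent.EtFound.PointHom

/-! sections of inverse images are locally inverse images of sections -/

universe u

open CategoryTheory CategoryTheory.Limits AlgebraicGeometry Opposite

namespace Groth.Agent.EtContLib

set_option backward.isDefEq.respectTransparency.types false

variable {X Y : Scheme.{u}} (f : X ⟶ Y) (G : EtCoh.Ab Y)

/-- the inverse image of a section -/
noncomputable abbrev unitSec (V : Y.Etale) (s : G.obj.obj (op V)) :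
    ((EtCoh.pull f).obj G).obj.obj (op ((EtCoh.bc f).obj V)) :=
  (((EtCoh.bc f).sheafAdjunctionContinuous AddCommGrpCat.{u + 1} Y.smallEtaleTopology X.smallEtaleTopology).unit.app
    G).hom.app (op V) s

theorem ev_id (V : Y.Etale) (s : G.obj.obj (op V)) :
    ev f (𝟙 ((EtCoh.pull f).obj G)) V s = unitSec f G V s := by
  simp only [ev, Adjunction.homEquiv_id]

theorem germ_unitSec {Ω : Type u} [Field Ω] [IsSepClosed Ω] (ξ : Spec (CommRingCat.of Ω) ⟶ X) (V : Y.Etale)
    (s : G.obj.obj (op V)) (t : (Scheme.pointSmallEtale ξ).fiber.obj ((EtCoh.bc f).obj V)) :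
    (EtFound.sheafFiberPullIso f ξ).inv.app G ((Scheme.pointSmallEtale (ξ ≫ f)).toPresheafFiber V
        (EtFound.bcFiberEquiv f ξ V t) G.obj s) =
      (Scheme.pointSmallEtale ξ).toPresheafFiber _ t ((EtCoh.pull f).obj G).obj (unitSec f G V s) :=
  (ConcreteCategory.comp_apply _ _ _).symm.trans
    ((ConcreteCategory.congr_hom (EtFound.sheafFiberPullIso_germ f ξ G V t) s).trans (ConcreteCategory.comp_apply _ _ _))

theorem fiberPullIso_inv_bijective {Ω : Type u} [Field Ω] [IsSepClosed Ω] (ξ : Spec (CommRingCat.of Ω) ⟶ X) :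
    Function.Bijective ((EtFound.sheafFiberPullIso (A := AddCommGrpCat.{u + 1}) f ξ).inv.app G) :=
  ((EtFound.sheafFiberPullIso (A := AddCommGrpCat.{u + 1}) f ξ).app G).symm.addCommGroupIsoToAddEquiv.bijective

theorem bcFiberEquiv_map {Ω : Type u} [Field Ω] [IsSepClosed Ω] (ξ : Spec (CommRingCat.of Ω) ⟶ X) {P U : Y.Etale}
    (a : P ⟶ U) (t : (Scheme.pointSmallEtale ξ).fiber.obj ((EtCoh.bc f).obj P)) :
    EtFound.bcFiberEquiv f ξ U ((Scheme.pointSmallEtale ξ).fiber.map ((EtCoh.bc f).map a) t) =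
      (Scheme.pointSmallEtale (ξ ≫ f)).fiber.map a (EtFound.bcFiberEquiv f ξ P t) := by
  apply CategoryTheory.Over.OverMorphism.ext
  change ((t.left : Spec (CommRingCat.of Ω) ⟶ ((EtCoh.bc f).obj P).left) ≫ ((EtCoh.bc f).map a).left) ≫
      pullback.fst U.hom f = ((t.left : Spec (CommRingCat.of Ω) ⟶ pullback P.hom f) ≫ pullback.fst P.hom f) ≫ a.left
  rw [Category.assoc, Category.assoc]
  exact congrArg _ (EtCoh.isPullback_bc_map f a).w

theorem map_bcFiber_symm {Ω : Type u} [Field Ω] [IsSepClosed Ω] (ξ : Spec (CommRingCat.of Ω) ⟶ X) {P U : Y.Etale}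
    (a : P ⟶ U) (p : (Scheme.pointSmallEtale (ξ ≫ f)).fiber.obj P) :
    (Scheme.pointSmallEtale ξ).fiber.map ((EtCoh.bc f).map a) ((EtFound.bcFiberEquiv f ξ P).symm p) =
      (EtFound.bcFiberEquiv f ξ U).symm ((Scheme.pointSmallEtale (ξ ≫ f)).fiber.map a p) := by
  apply (EtFound.bcFiberEquiv f ξ U).injective
  rw [bcFiberEquiv_map, Equiv.apply_symm_apply, Equiv.apply_symm_apply]

/-- a section killed by inverse image dies near every point of the source -/
theorem exists_kill_of_unitSec_eq_zero {V : Y.Etale} (s : G.obj.obj (op V)) (h : unitSec f G V s = 0)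
    (z : ((EtCoh.bc f).obj V).left) :
    ∃ (V' : Y.Etale) (g : V' ⟶ V) (v : V'.left), g.left v = pullback.fst V.hom f z ∧ G.obj.map g.op s = 0 := by
  obtain ⟨Ω, _, _, ξ, t, ht⟩ := EtFound.exists_point_through ((EtCoh.bc f).obj V) z
  let y := EtFound.bcFiberEquiv f ξ V t
  have h0 : (Scheme.pointSmallEtale (ξ ≫ f)).toPresheafFiber V y G.obj s =
      (Scheme.pointSmallEtale (ξ ≫ f)).toPresheafFiber V y G.obj 0 := by
    rw [map_zero]
    refine (fiberPullIso_inv_bijective f G ξ).1 ((germ_unitSec f G ξ V s t).trans ?_)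
    rw [h, map_zero]
    exact (map_zero ((EtFound.sheafFiberPullIso (A := AddCommGrpCat.{u + 1}) f ξ).inv.app G).hom).symm
  obtain ⟨V', g, v, hv, hg⟩ := ((Scheme.pointSmallEtale (ξ ≫ f)).toPresheafFiber_eq_iff' V y s 0).1 h0
  refine ⟨V', g, EtFound.ptOf v, ?_, by rw [hg, map_zero]⟩
  refine (EtFound.ptOf_map g v).symm.trans ((congrArg EtFound.ptOf hv).trans ?_)
  refine (Scheme.Hom.comp_apply _ _ _).trans ?_
  exact congrArg (fun x => pullback.fst V.hom f x) (ht _)

/-- near every point a section of an inverse image is the inverse image of a section -/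
theorem exists_local_unitSec {U : Y.Etale} (q : ((EtCoh.pull f).obj G).obj.obj (op ((EtCoh.bc f).obj U)))
    (z : ((EtCoh.bc f).obj U).left) :
    ∃ (P : Y.Etale) (_ : IsAffine P.left) (a : P ⟶ U) (s : G.obj.obj (op P)) (O : X.Etale) (o : O ⟶ (EtCoh.bc f).obj P) (w : O.left),
      (o ≫ (EtCoh.bc f).map a).left w = z ∧
        ((EtCoh.pull f).obj G).obj.map (o ≫ (EtCoh.bc f).map a).op q =
          ((EtCoh.pull f).obj G).obj.map o.op (unitSec f G P s) := by
  obtain ⟨Ω, _, _, ξ, t, ht⟩ := EtFound.exists_point_through ((EtCoh.bc f).obj U) z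
  let Φ := Scheme.pointSmallEtale ξ
  let Ψ := Scheme.pointSmallEtale (ξ ≫ f)
  obtain ⟨x, hx⟩ := (fiberPullIso_inv_bijective f G ξ).2 (Φ.toPresheafFiber _ t ((EtCoh.pull f).obj G).obj q)
  obtain ⟨Y', y', s', hs'⟩ := Ψ.toPresheafFiber_jointly_surjective (P := G.obj) x
  obtain ⟨⟨P, p⟩, ⟨a, ha⟩, ⟨b, hb⟩, -⟩ := IsCofilteredOrEmpty.cone_objs
    (Ψ.fiber.elementsMk U (EtFound.bcFiberEquiv f ξ U t)) (Ψ.fiber.elementsMk Y' y')
  obtain ⟨a', ha'⟩ : ∃ a' : P ⟶ U, Ψ.fiber.map a' p = EtFound.bcFiberEquiv f ξ U t := ⟨a, ha⟩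
  obtain ⟨b', hb'⟩ : ∃ b' : P ⟶ Y', Ψ.fiber.map b' p = y' := ⟨b, hb⟩
  obtain ⟨P', r, hP', v, hv⟩ := EtTorLib.exists_affine_nhd P (EtFound.ptOf p)
  obtain ⟨p', hp', -⟩ := EtFound.exists_lift_point r p v hv
  have ha'' : Ψ.fiber.map (r ≫ a') p' = EtFound.bcFiberEquiv f ξ U t := by
    rw [Functor.map_comp_apply, hp', ha']
  have hb'' : Ψ.fiber.map (r ≫ b') p' = y' := by rw [Functor.map_comp_apply, hp', hb']
  clear ha' hb'
  rename' P' => P'', a' => a₀, b' => b₀
  let a' := r ≫ a₀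
  let b' := r ≫ b₀
  let P := P''
  let p := p'
  have ha' : Ψ.fiber.map a' p = EtFound.bcFiberEquiv f ξ U t := ha''
  have hb' : Ψ.fiber.map b' p = y' := hb''
  let tP := (EtFound.bcFiberEquiv f ξ P).symm p
  have htP : Φ.fiber.map ((EtCoh.bc f).map a') tP = t :=
    (map_bcFiber_symm f ξ a' p).trans ((congrArg _ ha').trans (Equiv.symm_apply_apply _ _))
  let s : G.obj.obj (op P) := G.obj.map b'.op s'
  have hgerm : Φ.toPresheafFiber _ tP ((EtCoh.pull f).obj G).obj
      (((EtCoh.pull f).obj G).obj.map ((EtCoh.bc f).map a').op q) =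
      Φ.toPresheafFiber _ tP ((EtCoh.pull f).obj G).obj (unitSec f G P s) := by
    rw [← germ_unitSec f G ξ P s tP, Φ.toPresheafFiber_w_apply, htP, ← hx, Equiv.apply_symm_apply,
      Ψ.toPresheafFiber_w_apply, hb', hs']
  obtain ⟨O, o, w, hw, ho⟩ := (Φ.toPresheafFiber_eq_iff' _ tP _ _).1 hgerm
  refine ⟨P, hP', a', s, O, o, EtFound.ptOf w, ?_, ?_⟩
  · refine (EtFound.ptOf_map _ w).symm.trans ?_
    rw [Functor.map_comp_apply, hw, htP]
    exact ht _
  · rw [op_comp, Functor.map_comp_apply]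
    exact ho

end Groth.Agent.EtContLib
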