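import Groth.Agent.EtContLib.ToStage

/-! continuity for colimit systems -/

universe u

open CategoryTheory CategoryTheory.Limits AlgebraicGeometry Opposite

namespace Groth.Agent.EtContLib

set_option backward.isDefEq.respectTransparency.types false

theorem preservesColimit_sections_small {X : Scheme.{u}} (U : X.Etale) [IsAffine U.left] (J : Type u)
    [SmallCategory J] [IsFiltered J] :
    PreservesColimitsOfShape J (sheafToPresheaf X.smallEtaleTopology AddCommGrpCat.{u + 1} ⋙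
      (evaluation X.Etaleᵒᵖ AddCommGrpCat.{u + 1}).obj (op U)) := by
  have : IsFiltered (AsSmall.{u + 1} J) := IsFiltered.of_equivalence AsSmall.equiv
  have := EtFound.preservesColimitsOfShape_sections_qcqs_ab U (EtFound.isQcqsObj_of_isAffine U) (AsSmall.{u + 1} J)
  exact preservesColimitsOfShape_of_equiv AsSmall.equiv.symm _

namespace Sys

variable {ι : Type u} [Preorder ι] {Xs : ιᵒᵖ ⥤ Scheme.{u}} {c : Cone Xs} (A : Sys Xs c)

/-- the system presents its limit sheaf as the colimit of the inverse images -/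
structure ColimData where
  G : ι ⥤ EtCoh.Ab c.pt
  κ : ∀ i, G.obj i ⟶ A.Finf
  natκ : ∀ ⦃i j : ι⦄ (h : i ⟶ j), G.map h ≫ κ j = κ i
  isColimit : IsColimit (Cocone.mk A.Finf { app := κ, naturality := fun _ _ h => by simp [natκ h] } : Cocone G)
  e : ∀ i, (EtCoh.pull (pr Xs c i)).obj (A.F i) ≅ G.obj i
  hψ : ∀ i, A.ψ i = (e i).hom ≫ κ i
  hG : ∀ ⦃i j : ι⦄ (h : i ≤ j),
    (e i).hom ≫ G.map (homOfLE h) = comp2 _ _ _ (pr_tr Xs c h) (A.φ h) (e j).hom

/-- transition on the inverse images to the limit -/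
noncomputable def limTr {i j : ι} (h : i ≤ j) :
    (EtCoh.pull (pr Xs c i)).obj (A.F i) ⟶ (EtCoh.pull (pr Xs c j)).obj (A.F j) :=
  comp2 _ _ _ (pr_tr Xs c h) (A.φ h) (𝟙 _)

theorem limTr_ψ {i j : ι} (h : i ≤ j) : A.limTr h ≫ A.ψ j = A.ψ i := by
  rw [limTr, ← comp2_comp_right, Category.id_comp, ← A.compat h]

variable {A}

theorem ColimData.limTr_eq (D : A.ColimData) {i j : ι} (h : i ≤ j) :
    (D.e i).hom ≫ D.G.map (homOfLE h) = A.limTr h ≫ (D.e j).hom := by
  rw [D.hG h, limTr, ← comp2_comp_right, Category.id_comp]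

theorem ev_ψ_eq (i : ι) (W : (Xs.obj (op i)).Etale) (s : (A.F i).obj.obj (op W)) :
    ev (pr Xs c i) (A.ψ i) W s = (A.ψ i).hom.app (op _) (unitSec (pr Xs c i) (A.F i) W s) := by
  rw [← ev_id, ← ev_comp, Category.id_comp]

theorem ev_limTr {i j : ι} (h : i ≤ j) (W : (Xs.obj (op i)).Etale) (s : (A.F i).obj.obj (op W)) :
    (A.limTr h).hom.app (op _) (unitSec (pr Xs c i) (A.F i) W s) =
      ((EtCoh.pull (pr Xs c j)).obj (A.F j)).obj.map (bcMap (pr Xs c j) (tr Xs h) _ (pr_tr Xs c h) W).op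
        (unitSec (pr Xs c j) (A.F j) _ (ev (tr Xs h) (A.φ h) W s)) := by
  rw [← ev_id, ← ev_comp, Category.id_comp, limTr, ev_comp2, ev_id]

variable [Nonempty ι] [IsDirected ι (· ≤ ·)] (D : A.ColimData)

include D in
theorem exists_rep (U : c.pt.Etale) [IsAffine U.left] (q : A.Finf.obj.obj (op U)) :
    ∃ (i : ι) (q' : ((EtCoh.pull (pr Xs c i)).obj (A.F i)).obj.obj (op U)), (A.ψ i).hom.app (op U) q' = q := by
  haveI : IsFiltered ι := isFiltered_of_directed_le_nonempty ι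
  haveI := preservesColimit_sections_small U ι
  obtain ⟨i, x, hx⟩ := Concrete.isColimit_exists_rep _ (isColimitOfPreserves
    (sheafToPresheaf c.pt.smallEtaleTopology AddCommGrpCat.{u + 1} ⋙
      (evaluation c.pt.Etaleᵒᵖ AddCommGrpCat.{u + 1}).obj (op U)) D.isColimit) q
  refine ⟨i, (D.e i).inv.hom.app (op U) x, ?_⟩
  rw [D.hψ i]
  exact (ConcreteCategory.congr_hom (congrArg (fun m => m.hom.app (op U))
    (show (D.e i).inv ≫ (D.e i).hom ≫ D.κ i = D.κ i by rw [Iso.inv_hom_id_assoc])) x).trans hx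

include D in
theorem exists_rep_eq_zero (U : c.pt.Etale) [IsAffine U.left] {i : ι}
    (q' : ((EtCoh.pull (pr Xs c i)).obj (A.F i)).obj.obj (op U)) (h : (A.ψ i).hom.app (op U) q' = 0) :
    ∃ (k : ι) (hk : i ≤ k), (A.limTr hk).hom.app (op U) q' = 0 := by
  haveI : IsFiltered ι := isFiltered_of_directed_le_nonempty ι
  haveI := preservesColimit_sections_small U ι
  rw [D.hψ i] at h
  obtain ⟨k, a, b, hab⟩ := Concrete.isColimit_exists_of_rep_eq _ (isColimitOfPreserves
    (sheafToPresheaf c.pt.smallEtaleTopology AddCommGrpCat.{u + 1} ⋙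
      (evaluation c.pt.Etaleᵒᵖ AddCommGrpCat.{u + 1}).obj (op U)) D.isColimit)
    ((D.e i).hom.hom.app (op U) q') (0 : (D.G.obj i).obj.obj (op U))
    (h.trans (map_zero ((D.κ i).hom.app (op U)).hom).symm)
  refine ⟨k, leOfHom a, ?_⟩
  have hz : (D.G.map a).hom.app (op U) ((D.e i).hom.hom.app (op U) q') = 0 :=
    hab.trans (map_zero ((D.G.map b).hom.app (op U)).hom)
  have e : (D.e i).hom ≫ D.G.map a ≫ (D.e k).inv = A.limTr (leOfHom a) := by
    rw [← Category.assoc, Subsingleton.elim a (homOfLE (leOfHom a)), D.limTr_eq, Category.assoc, Iso.hom_inv_id,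
      Category.comp_id]
  refine (ConcreteCategory.congr_hom (congrArg (fun m => m.hom.app (op U)) e) q').symm.trans ?_
  exact (congrArg ((D.e k).inv.hom.app (op U)) hz).trans (map_zero ((D.e k).inv.hom.app (op U)).hom)

variable (haff : ∀ ⦃a b : ιᵒᵖ⦄ (h : a ⟶ b), IsAffineHom (Xs.map h)) (hc : IsLimit c)

include D haff hc in
/-- injectivity in degree zero -/
theorem exists_die_of_ev_ψ_eq_zero {j : ι} (W : (Xs.obj (op j)).Etale) [IsAffine W.left]
    (s : (A.F j).obj.obj (op W)) (h : ev (pr Xs c j) (A.ψ j) W s = 0) :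
    ∃ (k : ι) (hk : j ≤ k), ev (tr Xs hk) (A.φ hk) W s = 0 := by
  haveI : IsAffine ((EtCoh.bc (pr Xs c j)).obj W).left := isAffine_wCone Xs c j W haff hc
  rw [ev_ψ_eq] at h
  obtain ⟨l, hl, hl0⟩ := exists_rep_eq_zero D _ _ h
  rw [ev_limTr] at hl0
  have h0 : unitSec (pr Xs c l) (A.F l) _ (ev (tr Xs hl) (A.φ hl) W s) = 0 :=
    map_injective_of_isIso _ (hl0.trans (map_zero _).symm)
  haveI : IsAffine ((EtCoh.bc (tr Xs hl)).obj W).left := isAffine_wDiag Xs j W haff (overMk j hl)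
  obtain ⟨k, hk, hk0⟩ := exists_die_of_limit_image A haff hc _ (ev (tr Xs hl) (A.φ hl) W s) fun z => by
    obtain ⟨V, g, v, hv, hg⟩ := exists_kill_of_unitSec_eq_zero (pr Xs c l) (A.F l) _ h0 z
    exact ⟨V, g, v, hv, l, le_rfl, by rw [hg, ev_map_zero]⟩
  exact ⟨k, hl.trans hk, (ev_φ_trans_eq_zero_iff A hl hk W s).2 hk0⟩

include D haff hc in
/-- sections of the limit sheaf locally come from stages -/
theorem exists_local_section {j : ι} (V : (Xs.obj (op j)).Etale) [IsAffine V.left]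
    (q : A.Finf.obj.obj (op ((EtCoh.bc (pr Xs c j)).obj V))) (z : ((EtCoh.bc (pr Xs c j)).obj V).left) :
    ∃ (k : ι) (hk : j ≤ k) (Q : (Xs.obj (op k)).Etale) (p : Q ⟶ (EtCoh.bc (tr Xs hk)).obj V) (v : Q.left)
      (f : (A.F k).obj.obj (op Q)),
      p.left v = toStage (pr Xs c k) (tr Xs hk) (pr Xs c j) (pr_tr Xs c hk) V z ∧
        A.Finf.obj.map ((EtCoh.bc (pr Xs c k)).map p ≫
          inv (bcMap (pr Xs c k) (tr Xs hk) (pr Xs c j) (pr_tr Xs c hk) V)).op q = ev (pr Xs c k) (A.ψ k) Q f := by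
  haveI : IsAffine ((EtCoh.bc (pr Xs c j)).obj V).left := isAffine_wCone Xs c j V haff hc
  haveI := isCofiltered_op (ι := ι)
  obtain ⟨i, q', hq'⟩ := exists_rep D _ q
  obtain ⟨K, hjK, hiK⟩ := exists_ge_ge j i
  let B := bcMap (pr Xs c K) (tr Xs hjK) (pr Xs c j) (pr_tr Xs c hjK) V
  let VK : (Xs.obj (op K)).Etale := (EtCoh.bc (tr Xs hjK)).obj V
  haveI : IsAffine VK.left := isAffine_wDiag Xs j V haff (overMk j hjK)
  let q'' : ((EtCoh.pull (pr Xs c K)).obj (A.F K)).obj.obj (op ((EtCoh.bc (pr Xs c j)).obj V)) :=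
    (A.limTr hiK).hom.app (op _) q'
  let q₀ : ((EtCoh.pull (pr Xs c K)).obj (A.F K)).obj.obj (op ((EtCoh.bc (pr Xs c K)).obj VK)) :=
    ((EtCoh.pull (pr Xs c K)).obj (A.F K)).obj.map (inv B).op q''
  obtain ⟨P, hP, a, s, O, o, w, how, hos⟩ := exists_local_unitSec (pr Xs c K) (A.F K) q₀ (B.left z)
  let u := ev (pr Xs c K) (A.ψ K) P s
  let qK : A.Finf.obj.obj (op ((EtCoh.bc (pr Xs c K)).obj VK)) := A.Finf.obj.map (inv B).op q
  have hqK : qK = (A.ψ K).hom.app (op _) q₀ := by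
    refine Eq.trans ?_ (NatTrans.naturality_apply (A.ψ K).hom (inv B).op q'').symm
    refine congrArg (A.Finf.obj.map (inv B).op) ?_
    exact hq'.symm.trans (ConcreteCategory.congr_hom (congrArg (fun m => m.hom.app (op _)) (A.limTr_ψ hiK)) q').symm
  have hd : A.Finf.obj.map o.op (A.Finf.obj.map ((EtCoh.bc (pr Xs c K)).map a).op qK - u) = 0 := by
    rw [map_sub, sub_eq_zero, ← Functor.map_comp_apply, ← op_comp]
    change _ = A.Finf.obj.map o.op (ev (pr Xs c K) (A.ψ K) P s)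
    rw [hqK, ev_ψ_eq, ← NatTrans.naturality_apply, ← NatTrans.naturality_apply, hos]
  -- shrink to the preimage of an open of a stage
  haveI : ∀ {a b : Over (op K)} (f : a ⟶ b), IsAffineHom ((wDiag Xs K P).map f) := fun f =>
    isAffineHom_wDiag Xs K P haff f
  haveI := EtFound.etale_left o
  let R : (wCone Xs c K P).pt.Opens := ⟨Set.range o.left, o.left.isOpenMap.isOpen_range⟩
  obtain ⟨_, ⟨idx, Qa, -, rfl⟩, hwQ, hQR⟩ := TopologicalSpace.Opens.isBasis_iff_nbhd.1
    (isBasis_preimage_isAffineOpen (wDiag Xs K P) _ (isLimitWCone Xs c K P hc)) (U := R)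
    (x := o.left w) ⟨w, rfl⟩
  have hKk : K ≤ idx.left.unop := le_of_over K idx
  let Pk : (Xs.obj (op idx.left.unop)).Etale := (EtCoh.bc (tr Xs hKk)).obj P
  let Qa' : Pk.left.Opens := Qa
  let op' := EtTorLib.openHom Pk Qa'
  let B' := bcMap (tr Xs hKk) (tr Xs hjK) (tr Xs (hjK.trans hKk)) (tr_tr Xs hjK hKk) V
  let p : EtTorLib.openObj Pk Qa' ⟶ (EtCoh.bc (tr Xs (hjK.trans hKk))).obj V :=
    op' ≫ (EtCoh.bc (tr Xs hKk)).map a ≫ inv B'
  let TP := toStage (pr Xs c idx.left.unop) (tr Xs hKk) (pr Xs c K) (pr_tr Xs c hKk) P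
  have hTP : ∀ y, (wCone Xs c K P).π.app idx y = TP y := fun y =>
    (hom_congr_apply (pullback.lift_fst _ _ _ :
      TP = ((wCone Xs c K P).π.app idx : ((EtCoh.bc (pr Xs c K)).obj P).left ⟶ Pk.left)) y).symm
  let v : (EtTorLib.openObj Pk Qa').left := (⟨TP (o.left w), (hTP _) ▸ hwQ⟩ : (Qa' : Scheme.{u}))
  let BP := bcMap (pr Xs c idx.left.unop) (tr Xs hKk) (pr Xs c K) (pr_tr Xs c hKk) P
  let Bk := bcMap (pr Xs c idx.left.unop) (tr Xs (hjK.trans hKk)) (pr Xs c j) (pr_tr Xs c _) V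
  let m : (EtCoh.bc (pr Xs c idx.left.unop)).obj (EtTorLib.openObj Pk Qa') ⟶ (EtCoh.bc (pr Xs c K)).obj P :=
    (EtCoh.bc (pr Xs c idx.left.unop)).map op' ≫ inv BP
  refine ⟨idx.left.unop, hjK.trans hKk, EtTorLib.openObj Pk Qa', p, v,
    (A.F idx.left.unop).obj.map op'.op (ev (tr Xs hKk) (A.φ hKk) P s), ?_, ?_⟩
  · have h1 : p ≫ B' = op' ≫ (EtCoh.bc (tr Xs hKk)).map a := by simp [p]
    have hinj : Function.Injective B'.left.base := by
      haveI : IsIso B'.left :=
        ⟨(inv B').left, congrArg (fun q => q.left) (IsIso.hom_inv_id B'), congrArg (fun q => q.left) (IsIso.inv_hom_id B')⟩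
      exact (ConcreteCategory.bijective_of_isIso B'.left.base).1
    refine hinj ?_
    refine (Scheme.Hom.comp_apply p.left B'.left v).symm.trans ?_
    refine (hom_congr_apply (congrArg (fun q => q.left) h1) v).trans ?_
    refine (Scheme.Hom.comp_apply _ _ v).trans ?_
    change ((EtCoh.bc (tr Xs hKk)).map a).left (TP (o.left w)) = _
    refine (Scheme.Hom.comp_apply TP _ (o.left w)).symm.trans ?_
    refine (hom_congr_apply (toStage_natural (pr Xs c idx.left.unop) (tr Xs hKk) (pr Xs c K) (pr_tr Xs c hKk) a)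
      (o.left w)).trans ?_
    refine (Scheme.Hom.comp_apply _ _ (o.left w)).trans ?_
    rw [show ((EtCoh.bc (pr Xs c K)).map a).left (o.left w) = B.left z from
      (Scheme.Hom.comp_apply _ _ w).symm.trans how]
    refine (Scheme.Hom.comp_apply _ _ z).symm.trans (Eq.trans ?_ (Scheme.Hom.comp_apply _ _ z))
    exact hom_congr_apply (toStage_bcMap (pr Xs c idx.left.unop) (tr Xs hKk) (tr Xs hjK) (pr Xs c K)
      (tr Xs (hjK.trans hKk)) (pr Xs c j) (pr_tr Xs c hKk) (tr_tr Xs hjK hKk) (pr_tr Xs c _) (pr_tr Xs c hjK) V).symm z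
  · have hmor : (EtCoh.bc (pr Xs c idx.left.unop)).map p ≫ inv Bk =
        m ≫ (EtCoh.bc (pr Xs c K)).map a ≫ inv B := by
      rw [← cancel_mono (Bk ≫ (EtCoh.bc (pr Xs c idx.left.unop)).map B')]
      simp only [Category.assoc, IsIso.inv_hom_id_assoc]
      rw [← Functor.map_comp, show Bk ≫ (EtCoh.bc (pr Xs c idx.left.unop)).map B' =
        B ≫ bcMap (pr Xs c idx.left.unop) (tr Xs hKk) (pr Xs c K) (pr_tr Xs c hKk) VK from
          bcMap_assoc (pr Xs c idx.left.unop) (tr Xs hKk) (tr Xs hjK) (pr Xs c K) (tr Xs (hjK.trans hKk))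
            (pr Xs c j) (pr_tr Xs c hKk) (tr_tr Xs hjK hKk) (pr_tr Xs c _) (pr_tr Xs c hjK) V, IsIso.inv_hom_id_assoc,
        ← bcMap_natural (pr Xs c idx.left.unop) (tr Xs hKk) (pr Xs c K) (pr_tr Xs c hKk) a]
      simp [p, m, BP]
    have hR : ev (pr Xs c idx.left.unop) (A.ψ idx.left.unop) (EtTorLib.openObj Pk Qa')
        ((A.F idx.left.unop).obj.map op'.op (ev (tr Xs hKk) (A.φ hKk) P s)) = A.Finf.obj.map m.op u := by
      rw [ev_natural, show u = A.Finf.obj.map BP.op (ev (pr Xs c idx.left.unop) (A.ψ idx.left.unop) _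
        (ev (tr Xs hKk) (A.φ hKk) P s)) from ev_ψ_trans A hKk P s, ← Functor.map_comp_apply, ← op_comp]
      congr 3
      simp [m]
    refine (congrArg (fun q' => A.Finf.obj.map q'.op q) hmor).trans (Eq.trans ?_ hR.symm)
    rw [← sub_eq_zero, op_comp, Functor.map_comp_apply, ← map_sub]
    have hq : A.Finf.obj.map ((EtCoh.bc (pr Xs c K)).map a ≫ inv B).op q =
        A.Finf.obj.map ((EtCoh.bc (pr Xs c K)).map a).op qK := by rw [op_comp, Functor.map_comp_apply]
    rw [hq]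
    refine map_eq_zero_of_range_subset m o _ hd fun x => hQR ?_
    change (wCone Xs c K P).π.app idx (m.left x) ∈ Qa
    rw [hTP]
    change TP (m.left x) ∈ Qa'
    let y := pullback.fst (EtTorLib.openObj Pk Qa').hom (pr Xs c idx.left.unop) x
    have e : m.left ≫ TP = pullback.fst (EtTorLib.openObj Pk Qa').hom (pr Xs c idx.left.unop) ≫ op'.left := by
      have e1 : m ≫ BP = (EtCoh.bc (pr Xs c idx.left.unop)).map op' := by simp [m]
      exact ((Category.assoc _ _ _).symm.trans (eq_whisker (congrArg (fun q => q.left) e1)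
        (pullback.fst Pk.hom (pr Xs c idx.left.unop)))).trans (bc_map_fst _ op')
    refine (congrArg (· ∈ Qa') ((Scheme.Hom.comp_apply _ _ x).symm.trans
      ((hom_congr_apply e x).trans (Scheme.Hom.comp_apply _ _ x)))).mpr ?_
    exact y.2

end Sys

end Groth.Agent.EtContLib
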