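import Mathlib.Algebra.Category.Grp.Basic
import Mathlib.Order.Directed

/-! directed systems of abelian groups with a cocone: five lemma for being a colimit -/

universe w u

namespace Groth.Agent.EtContLib

variable (ι : Type u) [Preorder ι]

/-- a directed system of abelian groups with a cocone -/
structure DSys where
  G : ι → AddCommGrpCat.{w}
  Ginf : AddCommGrpCat.{w}
  T : ∀ ⦃i j : ι⦄, i ≤ j → (G i →+ G j)
  π : ∀ i, G i →+ Ginf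
  T_T : ∀ ⦃i j k : ι⦄ (hij : i ≤ j) (hjk : j ≤ k) (x : G i), T hjk (T hij x) = T (hij.trans hjk) x
  π_T : ∀ ⦃i j : ι⦄ (h : i ≤ j) (x : G i), π j (T h x) = π i x

namespace DSys

variable {ι}

/-- everything comes from a stage -/
def Surj (A : DSys.{w} ι) : Prop := ∀ ξ : A.Ginf, ∃ (i : ι) (x : A.G i), A.π i x = ξ

/-- what dies in the limit dies at a stage -/
def Inj (A : DSys.{w} ι) : Prop :=
  ∀ (i : ι) (x : A.G i), A.π i x = 0 → ∃ (k : ι) (hk : i ≤ k), A.T hk x = 0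

/-- the cocone is colimiting -/
def IsColim (A : DSys.{w} ι) : Prop := A.Surj ∧ A.Inj

/-- the zero system -/
noncomputable def zero : DSys.{w} ι where
  G _ := AddCommGrpCat.of PUnit
  Ginf := AddCommGrpCat.of PUnit
  T _ _ _ := 0
  π _ := 0
  T_T _ _ _ _ _ _ := rfl
  π_T _ _ _ _ := rfl

theorem zero_isColim [Nonempty ι] : (zero : DSys.{w} ι).IsColim :=
  ⟨fun _ => ⟨Classical.arbitrary ι, 0, rfl⟩, fun i _ _ => ⟨i, le_rfl, rfl⟩⟩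

/-- morphisms of systems -/
structure Hom (A B : DSys.{w} ι) where
  f : ∀ i, A.G i →+ B.G i
  finf : A.Ginf →+ B.Ginf
  comm : ∀ ⦃i j : ι⦄ (h : i ≤ j) (x : A.G i), B.T h (f i x) = f j (A.T h x)
  comm_inf : ∀ (i : ι) (x : A.G i), B.π i (f i x) = finf (A.π i x)

/-- the zero morphism -/
def zeroHom (A B : DSys.{w} ι) : Hom A B where
  f _ := 0
  finf := 0
  comm _ _ _ _ := map_zero _
  comm_inf _ _ := map_zero _

/-- exactness at the middle, at all stages and in the limit -/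
def ExactPair {A B C : DSys.{w} ι} (f : Hom A B) (g : Hom B C) : Prop :=
  (∀ i x, g.f i x = 0 ↔ ∃ y, f.f i y = x) ∧ (∀ x, g.finf x = 0 ↔ ∃ y, f.finf y = x)

variable [IsDirected ι (· ≤ ·)] {A₁ A₂ A₃ A₄ A₅ : DSys.{w} ι} {f₁ : Hom A₁ A₂} {f₂ : Hom A₂ A₃}
  {f₃ : Hom A₃ A₄} {f₄ : Hom A₄ A₅}

theorem five_surj (e₃ : ExactPair f₂ f₃) (e₄ : ExactPair f₃ f₄) (h₂ : A₂.Surj) (h₄ : A₄.Surj)
    (h₅ : ∀ (i : ι) (y : A₄.G i), A₅.π i (f₄.f i y) = 0 → ∃ (k : ι) (hk : i ≤ k), A₅.T hk (f₄.f i y) = 0) :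
    A₃.Surj := by
  intro ξ
  obtain ⟨i, y, hy⟩ := h₄ (f₃.finf ξ)
  have h0 : A₅.π i (f₄.f i y) = 0 := by
    rw [f₄.comm_inf, hy]
    exact (e₄.2 _).2 ⟨ξ, rfl⟩
  obtain ⟨k, hk, hky⟩ := h₅ i y h0
  rw [f₄.comm] at hky
  obtain ⟨z, hz⟩ := (e₄.1 k _).1 hky
  obtain ⟨ξ₂, hξ₂⟩ := (e₃.2 (ξ - A₃.π k z)).1 (by
    rw [map_sub, ← f₃.comm_inf, hz, A₄.π_T, hy, sub_self])
  obtain ⟨l, x, hx⟩ := h₂ ξ₂
  obtain ⟨m, hkm, hlm⟩ := exists_ge_ge k l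
  refine ⟨m, A₃.T hkm z + f₂.f m (A₂.T hlm x), ?_⟩
  rw [map_add, A₃.π_T, f₂.comm_inf, A₂.π_T, hx, hξ₂, add_sub_cancel]

theorem five_inj (e₂ : ExactPair f₁ f₂) (e₃ : ExactPair f₂ f₃) (h₁ : A₁.Surj) (h₂ : A₂.Inj) (h₄ : A₄.Inj) :
    A₃.Inj := by
  intro i x hx
  obtain ⟨k, hk, hkx⟩ := h₄ i (f₃.f i x) (by rw [f₃.comm_inf, hx, map_zero])
  rw [f₃.comm] at hkx
  obtain ⟨y, hy⟩ := (e₃.1 k _).1 hkx
  obtain ⟨ξ₁, hξ₁⟩ := (e₂.2 (A₂.π k y)).1 (by rw [← f₂.comm_inf, hy, A₃.π_T, hx])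
  obtain ⟨l, z, hz⟩ := h₁ ξ₁
  obtain ⟨m, hkm, hlm⟩ := exists_ge_ge k l
  obtain ⟨p, hmp, hp⟩ := h₂ m (A₂.T hkm y - f₁.f m (A₁.T hlm z)) (by
    rw [map_sub, A₂.π_T, f₁.comm_inf, A₁.π_T, hz, hξ₁, sub_self])
  refine ⟨p, (hk.trans hkm).trans hmp, ?_⟩
  rw [map_sub, sub_eq_zero, f₁.comm] at hp
  rw [← A₃.T_T (hk.trans hkm) hmp, ← A₃.T_T hk hkm, ← hy, f₂.comm, f₂.comm, hp]
  exact (e₂.1 p _).2 ⟨_, rfl⟩

end DSys

end Groth.Agent.EtContLib
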