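import Groth.Agent.EtContLib.Sys
import Groth.Agent.EtLC12.QcqsAcyclic
import Groth.Agent.EtTorLib.Sections
import Groth.Agent.SiteBase.AbSecExact
import Mathlib.Order.ULift

/-! systems all of whose sections die have dying cohomology -/

universe u

open CategoryTheory CategoryTheory.Limits AlgebraicGeometry Opposite

namespace Groth.Agent.EtContLib

set_option backward.isDefEq.respectTransparency.types false

theorem mono_app {X : Scheme.{u}} {P Q : EtCoh.Ab X} (a : P ⟶ Q) [Mono a] (U : X.Etale) :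
    Function.Injective (a.hom.app (op U)) := by
  haveI : Mono a.hom := (sheafToPresheaf X.smallEtaleTopology AddCommGrpCat.{u + 1}).map_mono a
  haveI : Mono (a.hom.app (op U)) := ((evaluation _ _).obj (op U)).map_mono a.hom
  exact (AddCommGrpCat.mono_iff_injective _).1 inferInstance

namespace Sys

variable {ι : Type u} [Preorder ι] {Xs : ιᵒᵖ ⥤ Scheme.{u}} {c : Cone Xs} (A : Sys Xs c)

/-- the limit is zero and sections over affine objects die -/
def Dead : Prop :=
  IsZero A.Finf ∧ ∀ (j : ι) (W : (Xs.obj (op j)).Etale) [IsAffine W.left] (s : (A.F j).obj.obj (op W)),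
    ∃ (k : ι) (h : j ≤ k), ev (tr Xs h) (A.φ h) W s = 0

variable (j : ι)

/-- the part of `F j` dying at a given stage -/
noncomputable abbrev kerAt (k : ULift.{u + 1} {k : ι // j ≤ k}) : EtCoh.Ab (Xs.obj (op j)) :=
  kernel ((EtCoh.pullPushAdj (tr Xs k.down.2)).homEquiv _ _ (A.φ k.down.2))

theorem pull_kerAt_φ (k : ULift.{u + 1} {k : ι // j ≤ k}) :
    (EtCoh.pull (tr Xs k.down.2)).map (kernel.ι _ : A.kerAt j k ⟶ A.F j) ≫ A.φ k.down.2 = 0 := by
  refine ((EtCoh.pullPushAdj (tr Xs k.down.2)).homEquiv _ _).injective ?_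
  rw [Adjunction.homEquiv_naturality_left]
  exact (kernel.condition _).trans (by simp [Adjunction.homEquiv_unit])

theorem kerAt_mono {k l : ULift.{u + 1} {k : ι // j ≤ k}} (hkl : k ≤ l) :
    (kernel.ι _ : A.kerAt j k ⟶ A.F j) ≫
      (EtCoh.pullPushAdj (tr Xs l.down.2)).homEquiv _ _ (A.φ l.down.2) = 0 := by
  rw [← Adjunction.homEquiv_naturality_left]
  have h : k.down.1 ≤ l.down.1 := hkl
  have e : A.φ l.down.2 = comp2 _ _ _ (tr_tr Xs k.down.2 h) (A.φ k.down.2) (A.φ h) := A.cocycle k.down.2 h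
  rw [e, ← comp2_comp_left, pull_kerAt_φ]
  simp [comp2, Adjunction.homEquiv_unit]

/-- the increasing family of dying parts -/
noncomputable def kerDiag : ULift.{u + 1} {k : ι // j ≤ k} ⥤ EtCoh.Ab (Xs.obj (op j)) where
  obj := A.kerAt j
  map {k l} a := kernel.lift _ (kernel.ι _) (A.kerAt_mono j (leOfHom a))
  map_id k := (cancel_mono (kernel.ι _)).1 (by simp)
  map_comp a b := (cancel_mono (kernel.ι _)).1 (by simp)

/-- its inclusion -/
noncomputable def kerCocone : Cocone (A.kerDiag j) where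
  pt := A.F j
  ι := { app := fun k => kernel.ι _
         naturality := fun k l a => by simp [kerDiag] }

variable [IsDirected ι (· ≤ ·)]

theorem isFiltered_index : IsFiltered (ULift.{u + 1} {k : ι // j ≤ k}) := by
  haveI : Nonempty (ULift.{u + 1} {k : ι // j ≤ k}) := ⟨⟨⟨j, le_rfl⟩⟩⟩
  haveI : IsDirected (ULift.{u + 1} {k : ι // j ≤ k}) (· ≤ ·) := ⟨fun a b => by
    obtain ⟨m, ha, hb⟩ := exists_ge_ge a.down.1 b.down.1
    exact ⟨⟨⟨m, a.down.2.trans ha⟩⟩, ha, hb⟩⟩
  exact isFiltered_of_directed_le_nonempty _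

variable {A}

theorem isIso_desc_kerCocone (hA : A.Dead) : IsIso (colimit.desc (A.kerDiag j) (A.kerCocone j)) := by
  haveI := isFiltered_index (ι := ι) j
  let p := colimit.desc (A.kerDiag j) (A.kerCocone j)
  haveI : Mono p := by
    refine EtTorLib.mono_of_affine p fun U _ t ht => ?_
    let Γ := sheafToPresheaf (Xs.obj (op j)).smallEtaleTopology AddCommGrpCat.{u + 1} ⋙
      (evaluation (Xs.obj (op j)).Etaleᵒᵖ AddCommGrpCat.{u + 1}).obj (op U)
    haveI : PreservesColimitsOfShape (ULift.{u + 1} {k : ι // j ≤ k}) Γ :=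
      EtFound.preservesColimitsOfShape_sections_qcqs_ab U (EtFound.isQcqsObj_of_isAffine U) _
    obtain ⟨k, s, rfl⟩ := Concrete.isColimit_exists_rep _
      (isColimitOfPreserves Γ (colimit.isColimit (A.kerDiag j))) t
    have h : (colimit.ι (A.kerDiag j) k ≫ p).hom.app (op U) s = 0 := ht
    have e : colimit.ι (A.kerDiag j) k ≫ p = (kernel.ι _ : A.kerAt j k ⟶ A.F j) := colimit.ι_desc _ _
    rw [e] at h
    have hs : s = 0 := @mono_app _ _ _ (kernel.ι ((EtCoh.pullPushAdj (tr Xs k.down.2)).homEquiv _ _ (A.φ k.down.2)))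
      equalizer.ι_mono U _ _ (h.trans (map_zero _).symm)
    rw [hs]
    exact map_zero ((colimit.ι (A.kerDiag j) k).hom.app (op U)).hom
  haveI : Epi p := by
    refine EtTorLib.epi_of_locally p fun U s x => ?_
    obtain ⟨W, g, hW, w, hw⟩ := EtTorLib.exists_affine_nhd U x
    obtain ⟨k, hk, hdie⟩ := hA.2 j W ((A.F j).obj.map g.op s)
    let K : ULift.{u + 1} {k : ι // j ≤ k} := ⟨⟨k, hk⟩⟩
    obtain ⟨z, hz⟩ := SiteBase.exists_kernel_section
      (ShortComplex.mk (kernel.ι ((EtCoh.pullPushAdj (tr Xs hk)).homEquiv _ _ (A.φ hk))) _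
        (kernel.condition _)) W ((A.F j).obj.map g.op s) hdie
    let z' : ((A.kerDiag j).obj K).obj.obj (op W) := z
    refine ⟨W, g, w, (colimit.ι (A.kerDiag j) K).hom.app (op W) z', ?_, hw⟩
    have e : colimit.ι (A.kerDiag j) K ≫ p = (kernel.ι _ : A.kerAt j K ⟶ A.F j) := colimit.ι_desc _ _
    exact (ConcreteCategory.congr_hom (congrArg (fun q => q.hom.app (op W)) e) z').trans hz
  exact isIso_of_mono_of_epi p

variable {j}

theorem cont_of_dead [Nonempty ι] (hqc : ∀ a, CompactSpace ↥(Xs.obj a))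
    (hqs : ∀ a, QuasiSeparatedSpace ↥(Xs.obj a)) (hA : A.Dead) (n : ℕ) : A.Cont n := by
  refine ⟨fun ξ => ⟨Classical.arbitrary ι, 0, ?_⟩, fun j x _ => ?_⟩
  · refine (map_zero _).trans ?_
    change (0 : EtCoh.H c.pt A.Finf n) = ξ
    rw [← CategoryTheory.Abelian.Ext.comp_mk₀_id (ξ : EtCoh.H c.pt A.Finf n), hA.1.eq_zero_of_src (𝟙 A.Finf),
      CategoryTheory.Abelian.Ext.mk₀_zero, CategoryTheory.Abelian.Ext.comp_zero]
  · haveI := isFiltered_index (ι := ι) j
    haveI := hqc (op j)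
    haveI := hqs (op j)
    haveI := EtLC12.QcqsAcyclic.preservesColimitsOfShape_HF (Xs.obj (op j)) n (ULift.{u + 1} {k : ι // j ≤ k})
    haveI : IsIso ((colimit.isColimit (A.kerDiag j)).desc (A.kerCocone j)) := isIso_desc_kerCocone j hA
    have hc : IsColimit (A.kerCocone j) := IsColimit.ofPointIso (colimit.isColimit _)
    obtain ⟨k, y, hy⟩ := Concrete.isColimit_exists_rep _
      (isColimitOfPreserves (EtCoh.HF (Xs.obj (op j)) n) hc) x
    refine ⟨k.down.1, k.down.2, ?_⟩
    rw [← hy]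
    refine (HpullThen_map_source _ (kernel.ι _ : A.kerAt j k ⟶ A.F j) (A.φ k.down.2) n y).symm.trans ?_
    rw [pull_kerAt_φ, HpullThen_apply, CategoryTheory.Abelian.Ext.mk₀_zero, CategoryTheory.Abelian.Ext.comp_zero]
    rfl

end Sys

end Groth.Agent.EtContLib
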