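import Groth.Agent.EtContLib.Main

/-! continuity for sheaves restricted from all schemes: `G_a`, `G_m` -/

universe u

open CategoryTheory CategoryTheory.Limits AlgebraicGeometry Opposite

namespace Groth.Agent.EtContLib

set_option backward.isDefEq.respectTransparency.types false

variable (P : Scheme.{u}ᵒᵖ ⥤ AddCommGrpCat.{u + 1}) (hP : Presheaf.IsSheaf Scheme.etaleTopology P)

/-- the restriction to the small étale site -/
noncomputable def shOf (X : Scheme.{u}) : EtCoh.Ab X :=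
  ((Scheme.Etale.forget X ⋙ Over.forget X).sheafPushforwardContinuous _ _ Scheme.etaleTopology).obj ⟨P, hP⟩

/-- functoriality in the scheme -/
noncomputable def pushMap {X Y : Scheme.{u}} (f : X ⟶ Y) : shOf P hP Y ⟶ (EtCoh.push f).obj (shOf P hP X) :=
  ObjectProperty.homMk (Functor.whiskerRight (NatTrans.op (EtLim.bcProj f)) P)

theorem ev_pushMap {X Y : Scheme.{u}} (f : X ⟶ Y) (V : Y.Etale) (s : P.obj (op V.left)) :
    ev f (((EtCoh.pullPushAdj f).homEquiv _ _).symm (pushMap P hP f)) V s = P.map (pullback.fst V.hom f).op s := by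
  simp only [ev, Equiv.apply_symm_apply]
  rfl

theorem map_three {A B C D : Scheme.{u}} (a : A ⟶ B) (b : B ⟶ C) (c : C ⟶ D) (s : P.obj (op D)) :
    P.map (a ≫ b ≫ c).op s = P.map a.op (P.map b.op (P.map c.op s)) := by
  rw [op_comp, op_comp, Functor.map_comp_apply, Functor.map_comp_apply]

/-- sections on affine limits come from a stage, essentially uniquely -/
def ContPsh : Prop :=
  ∀ {I : Type u} [SmallCategory I] [IsCofiltered I] (D : I ⥤ Scheme.{u}) [∀ i, IsAffine (D.obj i)]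
    (d : Cone D), IsLimit d →
    (∀ (i : I) (s : P.obj (op (D.obj i))), P.map (d.π.app i).op s = 0 →
      ∃ (j : I) (f : j ⟶ i), P.map (D.map f).op s = 0) ∧
    ∀ t : P.obj (op d.pt), ∃ (i : I) (s : P.obj (op (D.obj i))), P.map (d.π.app i).op s = t

variable {ι : Type u} [Preorder ι] (Xs : ιᵒᵖ ⥤ Scheme.{u}) (c : Cone Xs)

/-- the system of restrictions -/
noncomputable def shSys : Sys Xs c where
  F i := shOf P hP (Xs.obj (op i))
  φ i j h := ((EtCoh.pullPushAdj (tr Xs h)).homEquiv _ _).symm (pushMap P hP (tr Xs h))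
  cocycle i j k hij hjk := by
    refine ev_ext _ fun V s => ?_
    rw [ev_comp2]
    refine (ev_pushMap P hP _ V s).trans ?_
    refine Eq.trans ?_ (congrArg _ ((ev_pushMap P hP _ _ _).trans
      (congrArg _ (ev_pushMap P hP (tr Xs hij) V s)))).symm
    refine Eq.trans ?_ (map_three P (bcMap (tr Xs hjk) (tr Xs hij) _ (tr_tr Xs hij hjk) V).left (pullback.fst _ _) (pullback.fst V.hom _) s)
    exact congrArg (fun m => P.map (Quiver.Hom.op m) s) (bcMap_fst (tr Xs hjk) (tr Xs hij) _ (tr_tr Xs hij hjk) V).symm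
  Finf := shOf P hP c.pt
  ψ i := ((EtCoh.pullPushAdj (pr Xs c i)).homEquiv _ _).symm (pushMap P hP (pr Xs c i))
  compat i j h := by
    refine ev_ext _ fun V s => ?_
    rw [ev_comp2]
    refine (ev_pushMap P hP _ V s).trans ?_
    refine Eq.trans ?_ (congrArg _ ((ev_pushMap P hP _ _ _).trans
      (congrArg _ (ev_pushMap P hP (tr Xs h) V s)))).symm
    refine Eq.trans ?_ (map_three P (bcMap (pr Xs c j) (tr Xs h) _ (pr_tr Xs c h) V).left (pullback.fst _ _) (pullback.fst V.hom _) s)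
    exact congrArg (fun m => P.map (Quiver.Hom.op m) s) (bcMap_fst (pr Xs c j) (tr Xs h) _ (pr_tr Xs c h) V).symm

variable {P} [Nonempty ι] [IsDirected ι (· ≤ ·)] (hcont : ContPsh P)
  (haff : ∀ ⦃a b : ιᵒᵖ⦄ (h : a ⟶ b), IsAffineHom (Xs.map h)) (hc : IsLimit c)

include hcont haff hc in
theorem shSys_injZero : (shSys P hP Xs c).InjZero := by
  intro j W _ s hs
  haveI := isCofiltered_op (ι := ι)
  haveI : ∀ a, IsAffine ((wDiag Xs j W).obj a) := fun a => isAffine_wDiag Xs j W haff a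
  let a₀ : Over (op j) := overMk j le_rfl
  let s₀ : P.obj (op ((wDiag Xs j W).obj a₀)) := P.map (pullback.fst W.hom (tr Xs (le_of_over j a₀))).op s
  have h0 : P.map (pullback.fst W.hom (pr Xs c j)).op s = 0 := (ev_pushMap P hP _ W s).symm.trans hs
  obtain ⟨a, f, hf⟩ := (hcont (wDiag Xs j W) _ (isLimitWCone Xs c j W hc)).1 a₀ s₀
    ((Functor.map_comp_apply P _ _ _).symm.trans
      ((congrArg (fun m => P.map (Quiver.Hom.op m) s) (wCone_π_fst Xs c j W a₀)).trans h0))
  refine ⟨a.left.unop, le_of_over j a, (ev_pushMap P hP _ W s).trans ?_⟩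
  have e : (wDiag Xs j W).map f ≫ pullback.fst W.hom (tr Xs (le_of_over j a₀)) =
      pullback.fst W.hom (tr Xs (le_of_over j a)) := pullback.lift_fst _ _ _
  exact ((congrArg (fun m => P.map (Quiver.Hom.op m) s) e).symm.trans (Functor.map_comp_apply P _ _ _)).trans hf

include hcont haff hc in
theorem shSys_surjLoc : (shSys P hP Xs c).SurjLoc := by
  intro j V _ q z
  haveI := isCofiltered_op (ι := ι)
  haveI : ∀ a, IsAffine ((wDiag Xs j V).obj a) := fun a => isAffine_wDiag Xs j V haff a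
  obtain ⟨a, t, ht⟩ := (hcont (wDiag Xs j V) _ (isLimitWCone Xs c j V hc)).2 q
  let k := a.left.unop
  have hk : j ≤ k := le_of_over j a
  let B := bcMap (pr Xs c k) (tr Xs hk) (pr Xs c j) (pr_tr Xs c hk) V
  refine ⟨k, hk, (EtCoh.bc (tr Xs hk)).obj V, 𝟙 _, toStage (pr Xs c k) (tr Xs hk) (pr Xs c j) (pr_tr Xs c hk) V z, t,
    rfl, ?_⟩
  rw [CategoryTheory.Functor.map_id, Category.id_comp]
  refine Eq.trans ?_ (ev_pushMap P hP (pr Xs c k) ((EtCoh.bc (tr Xs hk)).obj V) t).symm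
  have e : (inv B).left ≫ (wCone Xs c j V).π.app a = pullback.fst ((EtCoh.bc (tr Xs hk)).obj V).hom (pr Xs c k) := by
    have e1 : (wCone Xs c j V).π.app a = B.left ≫ pullback.fst ((EtCoh.bc (tr Xs hk)).obj V).hom (pr Xs c k) :=
      (pullback.lift_fst _ _ _).symm
    have e2 : (inv B).left ≫ B.left = 𝟙 _ := congrArg (fun q => q.left) (IsIso.inv_hom_id B)
    exact (whisker_eq _ e1).trans ((Category.assoc _ _ _).symm.trans ((eq_whisker e2 _).trans (Category.id_comp _)))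
  change P.map ((inv B).left).op q = _
  rw [← ht]
  exact ((Functor.map_comp_apply P _ _ _).symm).trans (congrArg (fun m => P.map (Quiver.Hom.op m) t) e)

include hcont haff hc in
theorem cont_shSys (hqc : ∀ a, CompactSpace ↥(Xs.obj a)) (hqs : ∀ a, QuasiSeparatedSpace ↥(Xs.obj a)) (n : ℕ) :
    (shSys P hP Xs c).Cont n :=
  Sys.cont_of_sections (shSys_injZero hP Xs c hcont haff hc) (shSys_surjLoc hP Xs c hcont haff hc) haff hc hqc hqs n

theorem contPsh_ΓAdd : ContPsh EtCoh.ΓAdd.{u} := by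
  intro I _ _ D _ d hd
  refine ⟨fun i s hs => ?_, fun t => ?_⟩
  · obtain ⟨j, f, hf⟩ := exists_appTop_map_eq_zero_of_isAffine_of_isLimit D d hd i s.down (congrArg ULift.down hs)
    exact ⟨j, f, ULift.ext _ _ hf⟩
  · obtain ⟨i, s, hs⟩ := exists_appTop_π_eq_of_isAffine_of_isLimit D d hd t.down
    exact ⟨i, ⟨s⟩, ULift.ext _ _ hs⟩

theorem contPsh_ΓUnits : ContPsh EtCoh.ΓUnits.{u} := by
  intro I _ _ D _ d hd
  refine ⟨fun i s hs => ?_, fun t => ?_⟩
  · let w : Γ(D.obj i, ⊤)ˣ := Additive.toMul s.down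
    have hw : (d.π.app i).appTop w = 1 :=
      congrArg (fun a : Γ(d.pt, ⊤)ˣ => (a : Γ(d.pt, ⊤)))
        (congrArg Additive.toMul (congrArg ULift.down hs))
    obtain ⟨j, f, hf⟩ := exists_appTop_map_eq_zero_of_isAffine_of_isLimit D d hd i ((w : Γ(D.obj i, ⊤)) - 1)
      (by rw [map_sub, map_one, sub_eq_zero]; exact hw)
    rw [map_sub, map_one, sub_eq_zero] at hf
    exact ⟨j, f, ULift.ext _ _ (congrArg Additive.ofMul (Units.ext hf))⟩
  · let w : Γ(d.pt, ⊤)ˣ := Additive.toMul t.down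
    obtain ⟨i₁, s₁, h₁⟩ := exists_appTop_π_eq_of_isAffine_of_isLimit D d hd (w : Γ(d.pt, ⊤))
    obtain ⟨i₂, s₂, h₂⟩ := exists_appTop_π_eq_of_isAffine_of_isLimit D d hd ((w⁻¹ : Γ(d.pt, ⊤)ˣ) : Γ(d.pt, ⊤))
    obtain ⟨i, a, b, -⟩ := IsCofilteredOrEmpty.cone_objs i₁ i₂
    have hπ : ∀ {i j : I} (f : i ⟶ j) (x : Γ(D.obj j, ⊤)),
        (d.π.app i).appTop ((D.map f).appTop x) = (d.π.app j).appTop x := fun {i j} f x => by
      rw [← d.w f, Scheme.Hom.comp_appTop]
      rfl
    obtain ⟨j, f, hf⟩ := exists_appTop_map_eq_zero_of_isAffine_of_isLimit D d hd i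
      ((D.map a).appTop s₁ * (D.map b).appTop s₂ - 1)
      (by rw [map_sub, map_one, map_mul, hπ, hπ, h₁, h₂, Units.mul_inv, sub_self])
    rw [map_sub, map_one, map_mul, sub_eq_zero] at hf
    let u₀ : Γ(D.obj j, ⊤)ˣ := Units.mkOfMulEqOne _ _ hf
    refine ⟨j, ⟨Additive.ofMul u₀⟩, ULift.ext _ _ (congrArg Additive.ofMul (Units.ext ?_))⟩
    exact ((hπ f _).trans (hπ a s₁)).trans h₁

end Groth.Agent.EtContLib
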