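import Groth.Agent.EtContLib.Sys
import Mathlib.AlgebraicGeometry.AffineTransitionLimit
import Mathlib.CategoryTheory.Limits.Shapes.Pullback.Connected

/-! the base change of an inverse system along an affine étale scheme over a stage -/

universe u

open CategoryTheory CategoryTheory.Limits AlgebraicGeometry Opposite

namespace Groth.Agent.EtContLib

set_option backward.isDefEq.respectTransparency.types false

variable {ι : Type u} [Preorder ι] (Xs : ιᵒᵖ ⥤ Scheme.{u}) (c : Cone Xs) (j : ι)

theorem isCofiltered_op [Nonempty ι] [IsDirected ι (· ≤ ·)] : IsCofiltered ιᵒᵖ :=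
  haveI : IsFiltered ι := isFiltered_of_directed_le_nonempty ι
  inferInstance

/-- the index inequality of an object of `Over (op j)` -/
theorem le_of_over (a : Over (op j)) : j ≤ a.left.unop := leOfHom a.hom.unop

/-- the index of a later stage -/
def overMk {k : ι} (h : j ≤ k) : Over (op j) := Over.mk (homOfLE h).op

variable (W : (Xs.obj (op j)).Etale)

/-- `W` at the later stages -/
noncomputable def wDiag : Over (op j) ⥤ Scheme.{u} where
  obj a := pullback W.hom (tr Xs (le_of_over j a))
  map {a b} f := pullback.lift (pullback.fst W.hom (tr Xs (le_of_over j a)))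
    (pullback.snd W.hom (tr Xs (le_of_over j a)) ≫ Xs.map f.left) (by
      have e : Xs.map f.left ≫ tr Xs (le_of_over j b) = tr Xs (le_of_over j a) := by
        rw [tr, tr, ← Functor.map_comp]
        exact congrArg _ (Subsingleton.elim _ _)
      exact pullback.condition.trans ((whisker_eq _ e.symm).trans (Category.assoc _ _ _).symm))
  map_id a := by
    apply pullback.hom_ext
    · rw [pullback.lift_fst, Category.id_comp]
    · rw [pullback.lift_snd, Category.id_comp, Over.id_left, CategoryTheory.Functor.map_id, Category.comp_id]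
  map_comp f g := by
    apply pullback.hom_ext
    · rw [pullback.lift_fst, Category.assoc, pullback.lift_fst, pullback.lift_fst]
    · rw [pullback.lift_snd, Category.assoc, pullback.lift_snd, pullback.lift_snd_assoc, Over.comp_left,
        Functor.map_comp, Category.assoc]

/-- the projection to the base system -/
noncomputable def wDiagSnd : wDiag Xs j W ⟶ Over.forget (op j) ⋙ Xs where
  app a := pullback.snd W.hom (tr Xs (le_of_over j a))
  naturality a b f := pullback.lift_snd _ _ _

/-- `W` on the limit -/
noncomputable def wCone : Cone (wDiag Xs j W) where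
  pt := pullback W.hom (pr Xs c j)
  π :=
    { app := fun a => pullback.lift (pullback.fst W.hom (pr Xs c j))
        (pullback.snd W.hom (pr Xs c j) ≫ pr Xs c a.left.unop)
        (pullback.condition.trans ((whisker_eq _ (pr_tr Xs c (le_of_over j a)).symm).trans (Category.assoc _ _ _).symm))
      naturality := fun a b f => by
        apply pullback.hom_ext
        · refine ((Category.assoc _ _ _).trans ((Category.id_comp _).trans (pullback.lift_fst _ _ _))).trans ?_
          exact ((Category.assoc _ _ _).trans
            ((whisker_eq _ (pullback.lift_fst _ _ _)).trans (pullback.lift_fst _ _ _))).symm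
        · refine ((Category.assoc _ _ _).trans ((Category.id_comp _).trans (pullback.lift_snd _ _ _))).trans ?_
          exact ((Category.assoc _ _ _).trans ((whisker_eq _ (pullback.lift_snd _ _ _)).trans
            ((Category.assoc _ _ _).symm.trans ((eq_whisker (pullback.lift_snd _ _ _) _).trans
              ((Category.assoc _ _ _).trans (whisker_eq _ (c.w f.left))))))).symm }

theorem wCone_π_fst (a : Over (op j)) :
    (wCone Xs c j W).π.app a ≫ pullback.fst W.hom (tr Xs (le_of_over j a)) = pullback.fst W.hom (pr Xs c j) :=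
  pullback.lift_fst _ _ _

theorem wCone_π_snd (a : Over (op j)) :
    (wCone Xs c j W).π.app a ≫ pullback.snd W.hom (tr Xs (le_of_over j a)) =
      pullback.snd W.hom (pr Xs c j) ≫ pr Xs c a.left.unop :=
  pullback.lift_snd _ _ _

attribute [local instance] CategoryTheory.isConnected_of_hasTerminal

theorem isPullback_wCone (a : Over (op j)) :
    IsPullback ((wCone Xs c j W).π.app a) (pullback.snd W.hom (pr Xs c j))
      (pullback.snd W.hom (tr Xs (le_of_over j a))) (pr Xs c a.left.unop) := by
  refine IsPullback.of_right ?_ (wCone_π_snd Xs c j W a) (IsPullback.of_hasPullback _ _)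
  have h1 := wCone_π_fst Xs c j W a
  have h2 := pr_tr Xs c (le_of_over j a)
  convert! IsPullback.of_hasPullback W.hom (pr Xs c j) using 1

/-- it is a limit -/
noncomputable def isLimitWCone [Nonempty ι] [IsDirected ι (· ≤ ·)] (hc : IsLimit c) : IsLimit (wCone Xs c j W) :=
  haveI := isCofiltered_op (ι := ι)
  isLimitOfIsPullbackOfIsConnected (wDiagSnd Xs j W) _ _
    (by exact { hom := pullback.snd W.hom (pr Xs c j), w := fun a => (wCone_π_snd Xs c j W a).symm })
    (fun a => isPullback_wCone Xs c j W a)
    ((Functor.Initial.isLimitWhiskerEquiv (Over.forget (op j)) c).symm hc)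

variable [IsAffine W.left]

theorem isAffine_wDiag (haff : ∀ ⦃a b : ιᵒᵖ⦄ (h : a ⟶ b), IsAffineHom (Xs.map h)) (a : Over (op j)) :
    IsAffine ((wDiag Xs j W).obj a) :=
  haveI : IsAffineHom (tr Xs (le_of_over j a)) := haff _
  haveI : IsAffine ((𝟭 Scheme.{u}).obj W.left) := ‹IsAffine W.left›
  @isAffine_of_isAffineHom _ _ (pullback.fst W.hom (tr Xs (le_of_over j a)))
    (MorphismProperty.pullback_fst (P := @IsAffineHom) _ _ (haff _)) _

theorem isAffineHom_wDiag (haff : ∀ ⦃a b : ιᵒᵖ⦄ (h : a ⟶ b), IsAffineHom (Xs.map h)) {a b : Over (op j)}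
    (f : a ⟶ b) : IsAffineHom ((wDiag Xs j W).map f) := by
  haveI := isAffine_wDiag Xs j W haff a
  haveI := isAffine_wDiag Xs j W haff b
  infer_instance

theorem isAffine_wCone [Nonempty ι] [IsDirected ι (· ≤ ·)]
    (haff : ∀ ⦃a b : ιᵒᵖ⦄ (h : a ⟶ b), IsAffineHom (Xs.map h)) (hc : IsLimit c) :
    IsAffine (pullback W.hom (pr Xs c j)) := by
  haveI := isCofiltered_op (ι := ι)
  haveI : ∀ {a b : ιᵒᵖ} (h : a ⟶ b), IsAffineHom (Xs.map h) := fun h => haff h
  haveI : IsAffineHom (pr Xs c j) := isAffineHom_π_app Xs c hc (op j)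
  haveI : IsAffineHom (pullback.fst W.hom (pr Xs c j)) := MorphismProperty.pullback_fst (P := @IsAffineHom) _ _ ‹IsAffineHom (pr Xs c j)›
  haveI : IsAffine ((𝟭 Scheme.{u}).obj W.left) := ‹IsAffine W.left›
  exact isAffine_of_isAffineHom (pullback.fst W.hom (pr Xs c j))

/-- an open containing the image of the limit contains the image of some stage -/
theorem exists_stage_subset [Nonempty ι] [IsDirected ι (· ≤ ·)]
    (haff : ∀ ⦃a b : ιᵒᵖ⦄ (h : a ⟶ b), IsAffineHom (Xs.map h)) (hc : IsLimit c) (V : W.left.Opens)
    (hV : ∀ x, pullback.fst W.hom (pr Xs c j) x ∈ V) :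
    ∃ (k : ι) (h : j ≤ k), ∀ x, pullback.fst W.hom (tr Xs h) x ∈ V := by
  haveI := isCofiltered_op (ι := ι)
  haveI : ∀ {a b : Over (op j)} (f : a ⟶ b), IsAffineHom ((wDiag Xs j W).map f) := fun f =>
    isAffineHom_wDiag Xs j W haff f
  haveI : ∀ a, IsAffine ((wDiag Xs j W).obj a) := fun a => isAffine_wDiag Xs j W haff a
  let a₀ : Over (op j) := overMk j le_rfl
  obtain ⟨a, f, hf⟩ := exists_map_eq_top (wDiag Xs j W) _ (isLimitWCone Xs c j W hc) (i := a₀)
    (pullback.fst W.hom (tr Xs (le_of_over j a₀)) ⁻¹ᵁ V) (top_le_iff.1 fun x _ => by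
      change pullback.fst W.hom (tr Xs (le_of_over j a₀)) ((wCone Xs c j W).π.app a₀ x) ∈ V
      have e : pullback.fst W.hom (pr Xs c j) x =
          pullback.fst W.hom (tr Xs (le_of_over j a₀)) ((wCone Xs c j W).π.app a₀ x) :=
        (congrArg (fun m : pullback W.hom (pr Xs c j) ⟶ W.left => m x) (wCone_π_fst Xs c j W a₀)).symm.trans
          (Scheme.Hom.comp_apply _ _ x)
      exact e ▸ hV x)
  refine ⟨a.left.unop, le_of_over j a, fun x => ?_⟩
  have h : pullback.fst W.hom (tr Xs (le_of_over j a₀)) ((wDiag Xs j W).map f x) ∈ V := hf.ge (Set.mem_univ x)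
  have e : (wDiag Xs j W).map f ≫ pullback.fst W.hom (tr Xs (le_of_over j a₀)) =
      pullback.fst W.hom (tr Xs (le_of_over j a)) := pullback.lift_fst _ _ _
  exact ((congrArg (fun m : pullback W.hom (tr Xs (le_of_over j a)) ⟶ W.left => m x) e).symm.trans
    (Scheme.Hom.comp_apply _ _ x)) ▸ h

end Groth.Agent.EtContLib
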