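import Groth.Agent.EtContLib.SysConstr
import Groth.Agent.EtContLib.Stage
import Groth.Agent.LimSm.Cover

/-! dying sections can be tested locally -/

universe u

open CategoryTheory CategoryTheory.Limits AlgebraicGeometry Opposite

namespace Groth.Agent.EtContLib

set_option backward.isDefEq.respectTransparency.types false

theorem ev_pushTau {X Y Z : Scheme.{u}} (f : X ⟶ Y) (g : Y ⟶ Z) (h : X ⟶ Z) (w : f ≫ g = h) (F : EtCoh.Ab X)
    (V : Z.Etale) (s : F.obj.obj (op ((EtCoh.bc h).obj V))) :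
    F.obj.map (bcMap f g h w V).op (ev g (pushTau f g h w F) V s) = s := by
  have := congrArg (fun m => ev h m V s) (comp2_pushTau f g h w F)
  simp only [ev_comp2, ev_counit] at this
  exact this

theorem ev_add {X Y : Scheme.{u}} (f : X ⟶ Y) {G : EtCoh.Ab Y} {M : EtCoh.Ab X}
    (a : (EtCoh.pull f).obj G ⟶ M) (V : Y.Etale) (s t : G.obj.obj (op V)) :
    ev f a V (s + t) = ev f a V s + ev f a V t :=
  map_add (((EtCoh.pullPushAdj f).homEquiv G M a).hom.app (op V)).hom s t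

theorem ev_map_zero {X Y : Scheme.{u}} (f : X ⟶ Y) {G : EtCoh.Ab Y} {M : EtCoh.Ab X}
    (a : (EtCoh.pull f).obj G ⟶ M) (V : Y.Etale) : ev f a V (0 : G.obj.obj (op V)) = 0 :=
  map_zero (((EtCoh.pullPushAdj f).homEquiv G M a).hom.app (op V)).hom

/-- base change preserves surjective families -/
theorem exists_bc_preimage {X Y : Scheme.{u}} (f : X ⟶ Y) {U V : Y.Etale} (m : V ⟶ U)
    (x : ((EtCoh.bc f).obj U).left) (v : V.left) (hv : m.left v = pullback.fst U.hom f x) :
    ∃ z : ((EtCoh.bc f).obj V).left, ((EtCoh.bc f).map m).left z = x := by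
  have sq := EtCoh.isPullback_bc_map f m
  obtain ⟨z, hz1, -⟩ := Scheme.Pullback.exists_preimage_pullback
    (f := (pullback.fst U.hom f : ((EtCoh.bc f).obj U).left ⟶ U.left)) (g := m.left) x v hv.symm
  refine ⟨sq.isoPullback.inv z, ?_⟩
  rw [← hz1, ← Scheme.Hom.comp_apply, IsPullback.isoPullback_inv_fst]
  rfl

namespace Sys

variable {ι : Type u} [Preorder ι] {Xs : ιᵒᵖ ⥤ Scheme.{u}} {c : Cone Xs} (A : Sys Xs c)

theorem die_mono {i j k : ι} (hij : i ≤ j) (hjk : j ≤ k) (W : (Xs.obj (op i)).Etale) (s : (A.F i).obj.obj (op W))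
    (h : ev (tr Xs hij) (A.φ hij) W s = 0) : ev (tr Xs (hij.trans hjk)) (A.φ (hij.trans hjk)) W s = 0 := by
  rw [A.cocycle hij hjk, ev_comp2, h, ev_map_zero, map_zero]

theorem exists_die_of_locally [IsDirected ι (· ≤ ·)] {j : ι} {W : (Xs.obj (op j)).Etale} [IsAffine W.left]
    (s : (A.F j).obj.obj (op W))
    (h : ∀ x : W.left, ∃ (V : (Xs.obj (op j)).Etale) (g : V ⟶ W) (v : V.left), g.left v = x ∧
      ∃ (k : ι) (hk : j ≤ k), ev (tr Xs hk) (A.φ hk) V ((A.F j).obj.map g.op s) = 0) :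
    ∃ (k : ι) (hk : j ≤ k), ev (tr Xs hk) (A.φ hk) W s = 0 := by
  classical
  choose V g v hv k hk hdie using h
  obtain ⟨t, ht⟩ := isCompact_univ.elim_finite_subcover (fun x => Set.range (g x).left.base)
    (fun x => by haveI := EtFound.etale_left (g x); exact (g x).left.isOpenMap.isOpen_range)
    (fun x _ => Set.mem_iUnion.2 ⟨x, v x, hv x⟩)
  haveI : Nonempty ι := ⟨j⟩
  obtain ⟨K, hK⟩ := Finset.exists_le (α := ι) (insert j (t.image k))
  have hjK : j ≤ K := hK j (Finset.mem_insert_self _ _)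
  refine ⟨K, hjK, EtTorLib.eq_zero_of_locally _ fun z => ?_⟩
  obtain ⟨x, hx, y, hy⟩ := Set.mem_iUnion₂.1 (ht (Set.mem_univ (pullback.fst W.hom (tr Xs hjK) z)))
  obtain ⟨z', hz'⟩ := exists_bc_preimage (tr Xs hjK) (g x) z y hy
  refine ⟨(EtCoh.bc (tr Xs hjK)).obj (V x), (EtCoh.bc (tr Xs hjK)).map (g x), z', ?_, hz'⟩
  rw [← ev_natural]
  exact die_mono A (hk x) (hK _ (Finset.mem_insert_of_mem (Finset.mem_image_of_mem k hx))) (V x) _ (hdie x)

end Sys

/-- étale coverings of the limit of an affine étale scheme descend to a stage, compatibly -/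
theorem exists_descend_cover_stage {ι : Type u} [Preorder ι] [Nonempty ι] [IsDirected ι (· ≤ ·)]
    (Xs : ιᵒᵖ ⥤ Scheme.{u}) (haff : ∀ ⦃a b : ιᵒᵖ⦄ (h : a ⟶ b), IsAffineHom (Xs.map h)) (c : Cone Xs)
    (hc : IsLimit c) (j : ι) (W : (Xs.obj (op j)).Etale) [IsAffine W.left] {α : Type u} (U : α → c.pt.Etale)
    [∀ b, IsAffine (U b).left] (u : ∀ b, U b ⟶ (EtCoh.bc (pr Xs c j)).obj W)
    (hcov : ∀ x, ∃ (b : α) (y : (U b).left), (u b).left y = x) :
    ∃ (k : ι) (h : j ≤ k) (n : ℕ) (P : Fin n → (Xs.obj (op k)).Etale)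
      (p : ∀ l, P l ⟶ (EtCoh.bc (tr Xs h)).obj W) (b : Fin n → α)
      (e : ∀ l, (EtCoh.bc (pr Xs c k)).obj (P l) ⟶ U (b l)),
      (∀ x, ∃ (l : Fin n) (y : (P l).left), (p l).left y = x) ∧
        ∀ l, (EtCoh.bc (pr Xs c k)).map (p l) =
            e l ≫ u (b l) ≫ bcMap (pr Xs c k) (tr Xs h) (pr Xs c j) (pr_tr Xs c h) W := by
  haveI := isCofiltered_op (ι := ι)
  haveI : ∀ (a b : Over (op j)) (f : a ⟶ b), IsAffineHom ((wDiag Xs j W).map f) := fun _ _ f =>
    isAffineHom_wDiag Xs j W haff f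
  let a₀ : Over (op j) := overMk j le_rfl
  haveI := isAffine_wDiag Xs j W haff a₀
  haveI : IsAffine (pullback W.hom (pr Xs c j)) := isAffine_wCone Xs c j W haff hc
  haveI : ∀ b, AlgebraicGeometry.Etale (u b).left := fun b => EtFound.etale_left (u b)
  let u' : ∀ b, (U b).left ⟶ (wCone Xs c j W).pt := fun b => (u b).left
  haveI : IsAffine (wCone Xs c j W).pt := ‹IsAffine (pullback W.hom (pr Xs c j))›
  haveI : ∀ b, AlgebraicGeometry.Etale (u' b) := fun b => EtFound.etale_left (u b)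
  obtain ⟨a, n, Pl, v, b, e, hv, hsurj, hpb⟩ := LimSm.exists_descend_cover (P := @AlgebraicGeometry.Etale)
    LimSm.core_etale (fun f _ h => by haveI := h; exact f.isOpenMap.isOpen_range)
    (wDiag Xs j W) (wCone Xs c j W) (isLimitWCone Xs c j W hc) a₀ (fun b => (U b).left) u'
    (fun b => ‹∀ b, AlgebraicGeometry.Etale (u' b)› b) hcov
  have hk : j ≤ a.left.unop := le_of_over j a
  let Wk : (Xs.obj (op a.left.unop)).Etale := (EtCoh.bc (tr Xs hk)).obj W
  haveI : ∀ l, AlgebraicGeometry.Etale (v l) := fun l => (hv l).1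
  let v' : ∀ l, Pl l ⟶ Wk.left := v
  haveI : AlgebraicGeometry.Etale Wk.hom := Wk.prop
  haveI : ∀ l, AlgebraicGeometry.Etale (v' l) := fun l => (hv l).1
  let P : Fin n → (Xs.obj (op a.left.unop)).Etale := fun l => Scheme.Etale.mk (v' l ≫ Wk.hom)
  let p : ∀ l, P l ⟶ Wk := fun l => MorphismProperty.Over.homMk (v' l) rfl trivial
  let π' : ((EtCoh.bc (pr Xs c j)).obj W).left ⟶ Wk.left := (wCone Xs c j W).π.app a
  -- the comparison of the two descriptions of the limit
  let B := bcMap (pr Xs c a.left.unop) (tr Xs hk) (pr Xs c j) (pr_tr Xs c hk) W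
  let m : ∀ l, (EtCoh.bc (pr Xs c a.left.unop)).obj (P l) ⟶ (EtCoh.bc (pr Xs c j)).obj W := fun l =>
    (EtCoh.bc (pr Xs c a.left.unop)).map (p l) ≫ inv B
  have hBfst : B.left ≫ pullback.fst Wk.hom (pr Xs c a.left.unop) = π' := by
    exact pullback.lift_fst _ _ _
  have hm : ∀ l, pullback.fst (P l).hom (pr Xs c a.left.unop) ≫ v' l = (m l).left ≫ π' := fun l => by
    have h1 : (m l ≫ B) = (EtCoh.bc (pr Xs c a.left.unop)).map (p l) := by simp [m]
    have h2 := congrArg (fun q => q.left ≫ pullback.fst Wk.hom (pr Xs c a.left.unop)) h1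
    refine Eq.symm ((whisker_eq _ hBfst.symm).trans ((Category.assoc _ _ _).symm.trans (h2.trans ?_)))
    exact bc_map_fst _ (p l)
  let el : ∀ l, ((EtCoh.bc (pr Xs c a.left.unop)).obj (P l)).left ⟶ (U (b l)).left := fun l =>
    (hpb l).lift (pullback.fst (P l).hom (pr Xs c a.left.unop)) (m l).left (hm l)
  have hel : ∀ l, el l ≫ (u (b l)).left = (m l).left := fun l => (hpb l).lift_snd _ _ _
  refine ⟨a.left.unop, hk, n, P, p, b, fun l => MorphismProperty.Over.homMk (el l) ?_ trivial, ?_, fun l => ?_⟩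
  · refine (whisker_eq _ (MorphismProperty.Over.w (u (b l))).symm).trans ?_
    exact ((Category.assoc _ _ _).symm.trans (eq_whisker (hel l) _)).trans (MorphismProperty.Over.w (m l))
  · intro x
    exact hsurj x
  · rw [← Category.assoc, ← IsIso.comp_inv_eq]
    exact MorphismProperty.Over.Hom.ext (hel l).symm

end Groth.Agent.EtContLib
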