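import Groth.Agent.EtContLib.Colimit

/-! continuity of étale cohomology for colimit systems -/

universe u

open CategoryTheory CategoryTheory.Limits AlgebraicGeometry Opposite

namespace Groth.Agent.EtContLib

set_option backward.isDefEq.respectTransparency.types false

namespace Sys

variable {ι : Type u} [Preorder ι] {Xs : ιᵒᵖ ⥤ Scheme.{u}} {c : Cone Xs} (A : Sys Xs c)

/-- the comparison with the direct image system -/
noncomputable def toPushed : Hom A (pushed Xs c A.Finf) where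
  a i := (EtCoh.pullPushAdj (pr Xs c i)).homEquiv _ _ (A.ψ i)
  ainf := 𝟙 _
  comm i j h := by
    refine comp2_counit_injective (pr Xs c j) (tr Xs h) (pr Xs c i) (pr_tr Xs c h) ?_
    have e : ∀ l, (EtCoh.pull (pr Xs c l)).map ((EtCoh.pullPushAdj (pr Xs c l)).homEquiv _ _ (A.ψ l)) ≫
        (EtCoh.pullPushAdj (pr Xs c l)).counit.app A.Finf = A.ψ l := fun l =>
      ((EtCoh.pullPushAdj (pr Xs c l)).homEquiv_counit _ _ _).symm.trans (Equiv.symm_apply_apply _ _)
    change comp2 (pr Xs c j) (tr Xs h) (pr Xs c i) (pr_tr Xs c h)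
        ((EtCoh.pull (tr Xs h)).map ((EtCoh.pullPushAdj (pr Xs c i)).homEquiv _ _ (A.ψ i)) ≫
          pushTau (pr Xs c j) (tr Xs h) (pr Xs c i) (pr_tr Xs c h) A.Finf) _ =
      comp2 (pr Xs c j) (tr Xs h) (pr Xs c i) (pr_tr Xs c h)
        (A.φ h ≫ (EtCoh.pullPushAdj (pr Xs c j)).homEquiv _ _ (A.ψ j)) _
    rw [comp2_comp_left, comp2_comp_mid, e j, ← A.compat h]
    exact (whisker_eq _ (comp2_pushTau (pr Xs c j) (tr Xs h) (pr Xs c i) (pr_tr Xs c h) A.Finf)).trans (e i)
  comm_inf i := (((EtCoh.pullPushAdj (pr Xs c i)).homEquiv_counit _ _ _).symm.trans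
    (Equiv.symm_apply_apply _ _)).trans (Category.comp_id _).symm

/-- the image of the comparison -/
noncomputable abbrev imgSys : Sys Xs c :=
  coker (kerι A.toPushed) A.Finf (𝟙 _) ((Category.comp_id _).trans
    (haveI : Mono A.toPushed.ainf := inferInstanceAs (Mono (𝟙 A.Finf)); kernel.ι_of_mono _))

/-- the image maps to the direct image system -/
noncomputable def imgHom : Hom A.imgSys (pushed Xs c A.Finf) :=
  cokerDesc _ _ _ _ A.toPushed (fun _ => kernel.condition _) (𝟙 _) (Category.comp_id _)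

/-- the cokernel of the comparison -/
noncomputable abbrev cokSys : Sys Xs c :=
  coker A.imgHom (cokernel (𝟙 A.Finf)) (cokernel.π (𝟙 A.Finf)) (cokernel.condition (𝟙 A.Finf))

/-- injectivity in degree zero: sections vanishing on the limit die -/
def InjZero : Prop :=
  ∀ (j : ι) (W : (Xs.obj (op j)).Etale) [IsAffine W.left] (s : (A.F j).obj.obj (op W)),
    ev (pr Xs c j) (A.ψ j) W s = 0 → ∃ (k : ι) (hk : j ≤ k), ev (tr Xs hk) (A.φ hk) W s = 0

/-- sections of the limit sheaf locally come from stages -/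
def SurjLoc : Prop :=
  ∀ (j : ι) (V : (Xs.obj (op j)).Etale) [IsAffine V.left]
    (q : A.Finf.obj.obj (op ((EtCoh.bc (pr Xs c j)).obj V))) (z : ((EtCoh.bc (pr Xs c j)).obj V).left),
    ∃ (k : ι) (hk : j ≤ k) (Q : (Xs.obj (op k)).Etale) (p : Q ⟶ (EtCoh.bc (tr Xs hk)).obj V) (v : Q.left)
      (f : (A.F k).obj.obj (op Q)),
      p.left v = toStage (pr Xs c k) (tr Xs hk) (pr Xs c j) (pr_tr Xs c hk) V z ∧
        A.Finf.obj.map ((EtCoh.bc (pr Xs c k)).map p ≫
          inv (bcMap (pr Xs c k) (tr Xs hk) (pr Xs c j) (pr_tr Xs c hk) V)).op q = ev (pr Xs c k) (A.ψ k) Q f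

variable {A} [Nonempty ι] [IsDirected ι (· ≤ ·)]
  (haff : ∀ ⦃a b : ιᵒᵖ⦄ (h : a ⟶ b), IsAffineHom (Xs.map h)) (hc : IsLimit c)

theorem dead_ker (hi : A.InjZero) : (ker A.toPushed).Dead := by
  haveI : Mono A.toPushed.ainf := inferInstanceAs (Mono (𝟙 A.Finf))
  refine ⟨isZero_kernel_of_mono _, fun j W _ s => ?_⟩
  let ιj : kernel (A.toPushed.a j) ⟶ A.F j := kernel.ι _
  haveI : Mono ιj := inferInstanceAs (Mono (kernel.ι _))
  have h0 : ev (pr Xs c j) (A.ψ j) W (ιj.hom.app (op W) s) = 0 :=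
    ConcreteCategory.congr_hom (congrArg (fun m => m.hom.app (op W)) (kernel.condition (A.toPushed.a j))) s
  obtain ⟨k, hk, hk0⟩ := hi j W _ h0
  refine ⟨k, hk, ?_⟩
  haveI : Mono ((kerι A.toPushed).a k) := inferInstanceAs (Mono (kernel.ι _))
  refine mono_app ((kerι A.toPushed).a k) ((EtCoh.bc (tr Xs hk)).obj W) (Eq.trans ?_ (map_zero _).symm)
  refine (ev_comp (tr Xs hk) _ ((kerι A.toPushed).a k) W s).symm.trans ?_
  rw [← (kerι A.toPushed).comm hk]
  exact (ev_map_comp (tr Xs hk) ιj (A.φ hk) W s).trans hk0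

include haff hc in
theorem dead_cokSys (hs : A.SurjLoc) : A.cokSys.Dead := by
  refine ⟨isZero_cokernel_of_epi _, fun j W _ s => exists_die_of_locally _ s fun x => ?_⟩
  let πj : (EtCoh.push (pr Xs c j)).obj A.Finf ⟶ cokernel (A.imgHom.a j) := cokernel.π _
  haveI : Epi πj := inferInstanceAs (Epi (cokernel.π _))
  obtain ⟨V, g, hV, v, q, hv, hq⟩ := exists_local_lift πj W s x
  refine ⟨V, g, v, hv, exists_die_of_stage_pieces A.cokSys haff hc V _ fun z => ?_⟩
  obtain ⟨k, hk, Q, p, w, f, hw, hf⟩ := hs j V q z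
  refine ⟨k, hk, Q, p, w, hw, ?_⟩
  let τ := pushTau (pr Xs c k) (tr Xs hk) (pr Xs c j) (pr_tr Xs c hk) A.Finf
  let πk : (EtCoh.push (pr Xs c k)).obj A.Finf ⟶ cokernel (A.imgHom.a k) := cokernel.π _
  have h1 : ev (tr Xs hk) (A.cokSys.φ hk) V ((A.cokSys.F j).obj.map g.op s) =
      πk.hom.app (op _) (ev (tr Xs hk) τ V q) := by
    refine (congrArg (ev (tr Xs hk) (A.cokSys.φ hk) V) hq.symm).trans ?_
    refine (ev_map_comp (tr Xs hk) πj (A.cokSys.φ hk) V q).symm.trans ?_
    exact (congrArg (fun m => ev (tr Xs hk) m V q) (π_cokerφ A.imgHom hk)).trans (ev_comp (tr Xs hk) τ πk V q)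
  refine (congrArg _ h1).trans ((NatTrans.naturality_apply πk.hom p.op _).symm.trans ?_)
  have hq' : ((EtCoh.push (pr Xs c k)).obj A.Finf).obj.map p.op (ev (tr Xs hk) τ V q) =
      (A.toPushed.a k).hom.app (op Q) f := by
    refine Eq.trans ?_ hf
    have hB := ev_pushTau (pr Xs c k) (tr Xs hk) (pr Xs c j) (pr_tr Xs c hk) A.Finf V q
    change A.Finf.obj.map ((EtCoh.bc (pr Xs c k)).map p).op (ev (tr Xs hk) τ V q) = _
    conv_rhs => rw [← hB, ← Functor.map_comp_apply, ← op_comp, Category.assoc, IsIso.inv_hom_id, Category.comp_id]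
  refine (congrArg _ hq').trans ?_
  let πI : A.F k ⟶ A.imgSys.F k := cokernel.π _
  have this : πI ≫ A.imgHom.a k = A.toPushed.a k := cokernel.π_desc _ _ _
  have e1 : A.toPushed.a k ≫ πk = 0 :=
    ((eq_whisker this.symm πk).trans (Category.assoc _ _ _)).trans
      ((whisker_eq πI (cokernel.condition _)).trans comp_zero)
  exact ConcreteCategory.congr_hom (congrArg (fun m => m.hom.app (op Q)) e1) f

/-- the main theorem, from conditions on sections -/
theorem cont_of_sections (hi : A.InjZero) (hs : A.SurjLoc) (haff : ∀ ⦃a b : ιᵒᵖ⦄ (h : a ⟶ b), IsAffineHom (Xs.map h)) (hc : IsLimit c)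
    (hqc : ∀ a, CompactSpace ↥(Xs.obj a)) (hqs : ∀ a, QuasiSeparatedSpace ↥(Xs.obj a)) (n : ℕ) : A.Cont n := by
  haveI : Mono A.toPushed.ainf := inferInstanceAs (Mono (𝟙 A.Finf))
  have hK := fun m => cont_of_dead hqc hqs (dead_ker hi) m
  have hC := fun m => cont_of_dead hqc hqs (dead_cokSys haff hc hs) m
  have hex1 : (ShortComplex.mk _ _ ((Category.comp_id _).trans (kernel.ι_of_mono A.toPushed.ainf) :
      (kerι A.toPushed).ainf ≫ 𝟙 A.Finf = 0)).ShortExact :=
    { exact := (ShortComplex.exact_iff_mono _ (kernel.ι_of_mono A.toPushed.ainf)).2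
        (inferInstanceAs (Mono (𝟙 A.Finf)))
      mono_f := inferInstanceAs (Mono (kernel.ι _))
      epi_g := inferInstanceAs (Epi (𝟙 A.Finf)) }
  let S1 := cokerSES (kerι A.toPushed) A.Finf (𝟙 _) _ (fun i => inferInstanceAs (Mono (kernel.ι _))) hex1
  have hm : ∀ i, Mono (A.imgHom.a i) := fun i =>
    (ShortComplex.exact_of_f_is_kernel (ShortComplex.mk (kernel.ι (A.toPushed.a i)) (A.toPushed.a i)
      (kernel.condition _)) (kernelIsKernel _)).mono_cokernelDesc
  have hex2 : (ShortComplex.mk (𝟙 A.Finf) (cokernel.π (𝟙 A.Finf)) (cokernel.condition (𝟙 A.Finf))).ShortExact :=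
    { exact := ShortComplex.exact_of_g_is_cokernel _ (cokernelIsCokernel _)
      mono_f := inferInstanceAs (Mono (𝟙 A.Finf))
      epi_g := inferInstanceAs (Epi (cokernel.π (𝟙 A.Finf))) }
  let S2 := cokerSES A.imgHom (cokernel (𝟙 A.Finf)) (cokernel.π (𝟙 A.Finf)) (cokernel.condition _) hm hex2
  exact S1.cont_middle hK (S2.cont_left (fun m => cont_pushed haff hqc hqs hc m _) hC) n

/-- the main theorem -/
theorem cont_of_colimData (D : A.ColimData) (haff : ∀ ⦃a b : ιᵒᵖ⦄ (h : a ⟶ b), IsAffineHom (Xs.map h))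
    (hc : IsLimit c) (hqc : ∀ a, CompactSpace ↥(Xs.obj a)) (hqs : ∀ a, QuasiSeparatedSpace ↥(Xs.obj a)) (n : ℕ) :
    A.Cont n :=
  cont_of_sections (fun _ W _ s h => exists_die_of_ev_ψ_eq_zero D haff hc W s h)
    (fun _ V _ q z => exists_local_section D haff hc V q z) haff hc hqc hqs n

end Sys

end Groth.Agent.EtContLib
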