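import Groth.Agent.EtContLib.Locally
import Groth.Agent.BigSiteLib.HofPushBij

/-! continuity for systems of direct images -/

universe u

open CategoryTheory CategoryTheory.Limits AlgebraicGeometry Opposite

namespace Groth.Agent.EtContLib

set_option backward.isDefEq.respectTransparency.types false

theorem exists_local_lift {X : Scheme.{u}} {P Q : EtCoh.Ab X} (a : P ⟶ Q) [Epi a] (U : X.Etale)
    (s : Q.obj.obj (op U)) (x : U.left) :
    ∃ (V : X.Etale) (g : V ⟶ U) (_ : IsAffine V.left) (v : V.left) (t : P.obj.obj (op V)),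
      g.left v = x ∧ a.hom.app (op V) t = Q.obj.map g.op s := by
  have hloc : Presheaf.IsLocallySurjective X.smallEtaleTopology a.hom :=
    (Sheaf.isLocallySurjective_iff_epi' AddCommGrpCat.{u + 1} a).2 inferInstance
  obtain ⟨V, g, v, ⟨t, ht⟩, hv⟩ := (EtFound.mem_topology_iff _).1 (hloc.imageSieve_mem s) x
  obtain ⟨W, r, hW, w, hw⟩ := EtTorLib.exists_affine_nhd V v
  refine ⟨W, r ≫ g, hW, w, P.obj.map r.op t, ?_, ?_⟩
  · rw [← hv, ← hw]
    exact Scheme.Hom.comp_apply _ _ _
  · rw [NatTrans.naturality_apply, ht, op_comp, Functor.map_comp_apply]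

theorem shortExact_push_left {X Y : Scheme.{u}} (f : X ⟶ Y) {S : ShortComplex (EtCoh.Ab X)} (hS : S.ShortExact) :
    (S.map (EtCoh.push f)).Exact ∧ Mono ((EtCoh.push f).map S.f) := by
  haveI : PreservesLimitsOfSize.{0, 0} (EtCoh.push f) := (EtCoh.pullPushAdj f).rightAdjoint_preservesLimits
  haveI : PreservesFiniteLimits (EtCoh.push f) := PreservesLimitsOfSize.preservesFiniteLimits _
  haveI := hS.mono_f
  exact ⟨hS.exact.map_of_mono_of_preservesKernel _ hS.mono_f inferInstance, inferInstance⟩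

namespace Sys

variable {ι : Type u} [Preorder ι] [Nonempty ι] [IsDirected ι (· ≤ ·)] {Xs : ιᵒᵖ ⥤ Scheme.{u}} {c : Cone Xs}

theorem cont_pushed_zero (F : EtCoh.Ab c.pt) : (pushed Xs c F).Cont 0 := by
  have key : ∀ i, Function.Bijective ((pushed Xs c F).H 0 |>.π i) := fun i =>
    BigSiteLib.HofBij.hof_bijective_zero (EtCoh.pullPushAdj (pr Xs c i)) (EtCore.pullConst (pr Xs c i) ℤ).inv
      inferInstance F
  refine ⟨fun ξ => ⟨Classical.arbitrary ι, (key _).2 ξ⟩, fun i x hx => ⟨i, le_rfl, ?_⟩⟩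
  rw [(key i).1 (hx.trans (map_zero _).symm), map_zero]

variable {S : ShortComplex (EtCoh.Ab c.pt)} (hS : S.ShortExact)

/-- the cokernel of the first map of direct image systems -/
noncomputable abbrev quotSys : Sys Xs c := coker (pushedMap (Xs := Xs) S.f) S.X₃ S.g S.zero

/-- its map to the direct image of the quotient -/
noncomputable def quotHom : Hom (quotSys (Xs := Xs) (S := S)) (pushed Xs c S.X₃) :=
  cokerDesc _ _ _ _ (pushedMap S.g)
    (fun i => by
      change (EtCoh.push _).map S.f ≫ (EtCoh.push _).map S.g = 0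
      rw [← Functor.map_comp, S.zero, Functor.map_zero])
    (𝟙 _) (Category.comp_id _)

/-- the error system -/
noncomputable abbrev errSys : Sys Xs c :=
  coker (quotHom (Xs := Xs) (S := S)) (cokernel (𝟙 S.X₃)) (cokernel.π (𝟙 S.X₃))
    (cokernel.condition (𝟙 S.X₃))

include hS in
theorem dead_errSys (haff : ∀ ⦃a b : ιᵒᵖ⦄ (h : a ⟶ b), IsAffineHom (Xs.map h)) (hc : IsLimit c) :
    (errSys (Xs := Xs) (S := S)).Dead := by
  haveI := hS.epi_g
  refine ⟨isZero_cokernel_of_epi _, fun j W _ s => exists_die_of_locally _ s fun x => ?_⟩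
  let πj : (EtCoh.push (pr Xs c j)).obj S.X₃ ⟶ cokernel ((quotHom (Xs := Xs) (S := S)).a j) := cokernel.π _
  haveI : Epi πj := inferInstanceAs (Epi (cokernel.π _))
  obtain ⟨V, g, hV, v, q, hv, hq⟩ := exists_local_lift πj W s x
  refine ⟨V, g, v, hv, ?_⟩
  choose U u hU y i hy hi using fun z => exists_local_lift S.g ((EtCoh.bc (pr Xs c j)).obj V) q z
  obtain ⟨k, hk, n, P, p, b, e, hsurj, he⟩ := exists_descend_cover_stage Xs haff c hc j V U u
    (fun z => ⟨z, y z, hy z⟩)
  refine ⟨k, hk, EtTorLib.eq_zero_of_locally _ fun z => ?_⟩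
  obtain ⟨l, w, hw⟩ := hsurj z
  refine ⟨P l, p l, w, ?_, hw⟩
  let τ := pushTau (pr Xs c k) (tr Xs hk) (pr Xs c j) (pr_tr Xs c hk) S.X₃
  let πk : (EtCoh.push (pr Xs c k)).obj S.X₃ ⟶ cokernel ((quotHom (Xs := Xs) (S := S)).a k) := cokernel.π _
  have h1 : ev (tr Xs hk) ((errSys (Xs := Xs) (S := S)).φ hk) V ((errSys (Xs := Xs) (S := S)).F j |>.obj.map g.op s) =
      πk.hom.app (op _) (ev (tr Xs hk) τ V q) := by
    refine (congrArg (ev (tr Xs hk) ((errSys (Xs := Xs) (S := S)).φ hk) V) hq.symm).trans ?_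
    refine (ev_map_comp (tr Xs hk) πj ((errSys (Xs := Xs) (S := S)).φ hk) V q).symm.trans ?_
    exact (congrArg (fun m => ev (tr Xs hk) m V q) (π_cokerφ (quotHom (Xs := Xs) (S := S)) hk)).trans
      (ev_comp (tr Xs hk) τ πk V q)
  refine (congrArg _ h1).trans ((NatTrans.naturality_apply πk.hom (p l).op _).symm.trans ?_)
  -- the section lifts to the middle sheaf on this piece
  let i' : ((EtCoh.push (pr Xs c k)).obj S.X₂).obj.obj (op (P l)) := S.X₂.obj.map (e l).op (i (b l))
  have hq' : ((EtCoh.push (pr Xs c k)).obj S.X₃).obj.map (p l).op (ev (tr Xs hk) τ V q) =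
      ((EtCoh.push (pr Xs c k)).map S.g).hom.app (op (P l)) i' := by
    have hB := ev_pushTau (pr Xs c k) (tr Xs hk) (pr Xs c j) (pr_tr Xs c hk) S.X₃ V q
    change S.X₃.obj.map ((EtCoh.bc (pr Xs c k)).map (p l)).op (ev (tr Xs hk) τ V q) =
      S.g.hom.app (op _) (S.X₂.obj.map (e l).op (i (b l)))
    rw [he l, NatTrans.naturality_apply, hi, op_comp, op_comp, Functor.map_comp_apply, Functor.map_comp_apply, hB]
  rw [show ((EtCoh.push (pr Xs c k)).obj S.X₃).obj.map (p l).op (ev (tr Xs hk) τ V q) = _ from hq']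
  let πJ : (EtCoh.push (pr Xs c k)).obj S.X₂ ⟶ (quotSys (Xs := Xs) (S := S)).F k := cokernel.π _
  have e1 : (EtCoh.push (pr Xs c k)).map S.g ≫ πk = 0 := by
    have : πJ ≫ (quotHom (Xs := Xs) (S := S)).a k = (EtCoh.push (pr Xs c k)).map S.g := cokernel.π_desc _ _ _
    exact ((eq_whisker this.symm πk).trans (Category.assoc _ _ _)).trans ((whisker_eq πJ (cokernel.condition _)).trans comp_zero)
  exact ConcreteCategory.congr_hom (congrArg (fun m => m.hom.app (op (P l))) e1) i'

include hS in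
theorem mono_quotHom (i : ι) : Mono ((quotHom (Xs := Xs) (S := S)).a i) :=
  (shortExact_push_left (pr Xs c i) hS).1.mono_cokernelDesc

theorem cont_pushed (haff : ∀ ⦃a b : ιᵒᵖ⦄ (h : a ⟶ b), IsAffineHom (Xs.map h))
    (hqc : ∀ a, CompactSpace ↥(Xs.obj a)) (hqs : ∀ a, QuasiSeparatedSpace ↥(Xs.obj a)) (hc : IsLimit c) :
    ∀ (n : ℕ) (F : EtCoh.Ab c.pt), (pushed Xs c F).Cont n := by
  intro n
  induction n using Nat.strong_induction_on with
  | _ n ih =>
    intro F
    rcases n with _ | n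
    · exact cont_pushed_zero F
    let S := EtMVLib.injSES F
    have hS := EtMVLib.injSES_shortExact F
    haveI hI : Injective S.X₂ := inferInstanceAs (Injective (Injective.under F))
    have hJR := fun m => cont_of_dead hqc hqs (dead_errSys (Xs := Xs) hS haff hc) m
    let T := cokerSES (quotHom (Xs := Xs) (S := S)) (cokernel (𝟙 S.X₃)) (cokernel.π (𝟙 S.X₃))
      (cokernel.condition (𝟙 S.X₃)) (mono_quotHom hS)
      { exact := ShortComplex.exact_of_g_is_cokernel _ (cokernelIsCokernel _)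
        mono_f := inferInstanceAs (Mono (𝟙 S.X₃))
        epi_g := inferInstanceAs (Epi (cokernel.π (𝟙 S.X₃))) }
    have hJ : (quotSys (Xs := Xs) (S := S)).Cont n := by
      rcases n with _ | m
      · exact T.cont_left_zero (cont_pushed_zero _) (hJR 0).2
      · exact T.cont_left_succ m (ih m (by omega) _).1 (hJR m) (ih (m + 1) (by omega) _) (Or.inl (hJR (m + 1)).2)
    have hz : ∀ i, Subsingleton (EtCoh.H (Xs.obj (op i)) ((pushed Xs c S.X₂).F i) (n + 1)) := fun i => by
      haveI : (EtCoh.pull (pr Xs c i)).PreservesMonomorphisms := inferInstance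
      haveI : Injective ((EtCoh.push (pr Xs c i)).obj S.X₂) :=
        Injective.injective_of_adjoint (EtCoh.pullPushAdj (pr Xs c i)) _
      exact subsingleton_of_forall_eq 0 fun x =>
        Abelian.Ext.eq_zero_of_injective (I := (EtCoh.push (pr Xs c i)).obj S.X₂) x
    have hzinf : Subsingleton (EtCoh.H c.pt S.X₂ (n + 1)) :=
      subsingleton_of_forall_eq 0 fun x => Abelian.Ext.eq_zero_of_injective x
    have hI' : (pushed Xs c S.X₂).Cont (n + 1) := by
      refine ⟨fun ξ => ⟨Classical.arbitrary ι, 0, (map_zero _).trans (hzinf.elim (0 : EtCoh.H c.pt S.X₂ (n + 1)) ξ)⟩,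
        fun i x _ => ⟨i, le_rfl, ?_⟩⟩
      rw [show x = 0 from (hz i).elim x (0 : EtCoh.H (Xs.obj (op i)) ((pushed Xs c S.X₂).F i) (n + 1)), map_zero]
    exact (cokerSES (pushedMap (Xs := Xs) S.f) S.X₃ S.g S.zero (fun i => (shortExact_push_left (pr Xs c i) hS).2)
      hS).cont_left_succ n (ih n (Nat.lt_succ_self n) _).1 hJ hI' (Or.inr ⟨hzinf, hz⟩)

end Sys

end Groth.Agent.EtContLib
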