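import Groth.Agent.EtContLib.BaseSys
import Groth.Agent.IndEtLib.Localization
import Groth.Agent.IndZarLib.Factor
import Groth.Agent.S12237
import Groth.Agent.S0734
import Groth.Prelude.Def_Hens2
import Mathlib.CategoryTheory.Presentable.Directed
import Mathlib.CategoryTheory.Limits.Constructions.Over.Connected

/-! a strict localisation is a limit of affine étale schemes -/

universe u

open CategoryTheory CategoryTheory.Limits AlgebraicGeometry Opposite

namespace Groth.Agent.EtContLib

set_option backward.isDefEq.respectTransparency false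
set_option backward.isDefEq.respectTransparency.types false
set_option linter.style.haveILetI false

theorem exists_strict_limit (S : Scheme.{u}) (s : S) (R : Type u) [CommRing R] [IsLocalRing R]
    [Algebra (S.presheaf.stalk s) R] [IsLocalHom (algebraMap (S.presheaf.stalk s) R)]
    [Hensel.IsStrictHenselization (S.presheaf.stalk s) R] :
    ∃ (ι : Type u) (_ : Preorder ι) (_ : Nonempty ι) (_ : IsDirected ι (· ≤ ·)) (E : ιᵒᵖ ⥤ S.Etale)
      (π : (Functor.const ιᵒᵖ).obj (Spec (CommRingCat.of R)) ⟶ stages E),
      Nonempty (IsLimit (Cone.mk (Spec (CommRingCat.of R)) π)) ∧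
      (∀ i, IsAffine (E.obj i).left) ∧ ∀ i, π.app i ≫ (E.obj i).hom = Hens2.specOf S s R := by
  obtain ⟨U, hU, hs, -⟩ := exists_isAffineOpen_mem_and_subset (U := (⊤ : S.Opens)) (x := s) trivial
  letI := TopCat.Presheaf.algebra_section_stalk S.presheaf (⟨s, hs⟩ : U)
  haveI := hU.isLocalization_stalk ⟨s, hs⟩
  letI : Algebra Γ(S, U) R := ((algebraMap (S.presheaf.stalk s) R).comp (algebraMap Γ(S, U) (S.presheaf.stalk s))).toAlgebra
  haveI : IsScalarTower Γ(S, U) (S.presheaf.stalk s) R := IsScalarTower.of_algebraMap_eq fun _ => rfl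
  have hloc : EtPBC.IsIndEtale Γ(S, U) (S.presheaf.stalk s) :=
    IndZarLib.isIndEtale_of_isIndZariski
      (IndEtLib.isIndZariski_localization (hU.primeIdealOf ⟨s, hs⟩).asIdeal.primeCompl (S.presheaf.stalk s))
  obtain ⟨J, _, _, D, c, hc, hD, ⟨e⟩⟩ :=
    Groth.Agent.S0734.result Γ(S, U) (S.presheaf.stalk s) R hloc (Groth.Agent.S12237.result (S.presheaf.stalk s) R)
  obtain ⟨α, _, _, _, F, _⟩ := IsFiltered.exists_directed J
  haveI : IsConnected J := IsFiltered.isConnected _
  let D' : α ⥤ CommRingCat.{u} := F ⋙ D ⋙ Under.forget _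
  let c' : Cocone D' := ((Under.forget _).mapCocone (c.extend e.hom)).whisker F
  have hc' : IsColimit c' :=
    (Functor.Final.isColimitWhiskerEquiv F _).symm
      (isColimitOfPreserves (Under.forget _) (hc.extendIso e.hom))
  have het : ∀ a : αᵒᵖ, AlgebraicGeometry.Etale (Spec.map (D.obj (F.obj a.unop)).hom ≫ hU.fromSpec) := fun a => by
    haveI : AlgebraicGeometry.Etale (Spec.map (D.obj (F.obj a.unop)).hom) := by
      refine (HasRingHomProperty.Spec_iff (P := @AlgebraicGeometry.Etale)).mpr ?_
      letI := (D.obj (F.obj a.unop)).hom.hom.toAlgebra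
      haveI := hD (F.obj a.unop)
      exact RingHom.etale_algebraMap.mpr inferInstance
    infer_instance
  let E : αᵒᵖ ⥤ S.Etale :=
    { obj := fun a => MorphismProperty.Over.mk ⊤ (Spec.map (D.obj (F.obj a.unop)).hom ≫ hU.fromSpec) (het a)
      map := fun {a b} m => MorphismProperty.Over.homMk (Spec.map (D.map (F.map m.unop)).right)
        ((Category.assoc _ _ _).symm.trans (eq_whisker ((Spec.map_comp _ _).symm.trans
          (congrArg Spec.map (Under.w (D.map (F.map m.unop))))) _))
      map_id := fun a => MorphismProperty.Over.Hom.ext (by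
        show Spec.map (D.map (F.map (𝟙 a.unop))).right = 𝟙 (Spec (D.obj (F.obj a.unop)).right)
        rw [F.map_id, D.map_id]
        exact Spec.map_id _)
      map_comp := fun {a b d} m n => MorphismProperty.Over.Hom.ext (by
        show Spec.map (D.map (F.map (n.unop ≫ m.unop))).right =
          Spec.map (D.map (F.map m.unop)).right ≫ Spec.map (D.map (F.map n.unop)).right
        rw [F.map_comp, D.map_comp, Under.comp_right, Spec.map_comp]) }
  let lim : IsLimit (Scheme.Spec.mapCone c'.op) := isLimitOfPreserves Scheme.Spec hc'.op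
  refine ⟨α, inferInstance, inferInstance, inferInstance, E, (Scheme.Spec.mapCone c'.op).π, ⟨lim⟩,
    fun a => inferInstanceAs (IsAffine (Spec (D.obj (F.obj a.unop)).right)), fun a => ?_⟩
  show Spec.map ((c.extend e.hom).ι.app (F.obj a.unop)).right ≫ Spec.map (D.obj (F.obj a.unop)).hom ≫ hU.fromSpec =
    Hens2.specOf S s R
  rw [← Category.assoc, ← Spec.map_comp, Under.w]
  show Spec.map (CommRingCat.ofHom ((algebraMap (S.presheaf.stalk s) R).comp
    (algebraMap Γ(S, U) (S.presheaf.stalk s)))) ≫ hU.fromSpec = _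
  rw [CommRingCat.ofHom_comp, Spec.map_comp, Category.assoc]
  exact congrArg (Spec.map (CommRingCat.ofHom (algebraMap (S.presheaf.stalk s) R)) ≫ ·)
    (hU.fromSpecStalk_eq_fromSpecStalk hs)

end Groth.Agent.EtContLib
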