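import Groth.Agent.EtContLib.ThenOps
import Groth.Agent.EtContLib.DSys
import Mathlib.CategoryTheory.Abelian.Injective.Ext

/-! systems of sheaves on an inverse system of schemes and their cohomology -/

universe u

open CategoryTheory CategoryTheory.Limits AlgebraicGeometry Opposite CategoryTheory.Abelian

namespace Groth.Agent.EtContLib

set_option backward.isDefEq.respectTransparency.types false

/-- pullback of abelian étale sheaves is exact -/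
scoped instance instPfl {X Y : Scheme.{u}} (f : X ⟶ Y) : PreservesFiniteLimits (EtCoh.pull f) := pfl f

variable {ι : Type u} [Preorder ι] (Xs : ιᵒᵖ ⥤ Scheme.{u}) (c : Cone Xs)

/-- a transition morphism -/
abbrev tr {i j : ι} (h : i ≤ j) : Xs.obj (op j) ⟶ Xs.obj (op i) := Xs.map (homOfLE h).op

theorem tr_tr {i j k : ι} (hij : i ≤ j) (hjk : j ≤ k) : tr Xs hjk ≫ tr Xs hij = tr Xs (hij.trans hjk) := by
  rw [tr, tr, tr, ← Functor.map_comp]
  rfl

/-- a projection -/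
abbrev pr (i : ι) : c.pt ⟶ Xs.obj (op i) := c.π.app (op i)

theorem pr_tr {i j : ι} (h : i ≤ j) : pr Xs c j ≫ tr Xs h = pr Xs c i := c.w (homOfLE h).op

/-- a system of sheaves with a cocone on the limit -/
structure Sys where
  F : ∀ i : ι, EtCoh.Ab (Xs.obj (op i))
  φ : ∀ ⦃i j : ι⦄ (h : i ≤ j), (EtCoh.pull (tr Xs h)).obj (F i) ⟶ F j
  cocycle : ∀ ⦃i j k : ι⦄ (hij : i ≤ j) (hjk : j ≤ k),
    φ (hij.trans hjk) = comp2 _ _ _ (tr_tr Xs hij hjk) (φ hij) (φ hjk)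
  Finf : EtCoh.Ab c.pt
  ψ : ∀ i : ι, (EtCoh.pull (pr Xs c i)).obj (F i) ⟶ Finf
  compat : ∀ ⦃i j : ι⦄ (h : i ≤ j), ψ i = comp2 _ _ _ (pr_tr Xs c h) (φ h) (ψ j)

variable {Xs c}

namespace Sys

/-- cohomology in a fixed degree -/
noncomputable def H (A : Sys Xs c) (n : ℕ) : DSys.{u + 1} ι where
  G i := AddCommGrpCat.of (EtCoh.H (Xs.obj (op i)) (A.F i) n)
  Ginf := AddCommGrpCat.of (EtCoh.H c.pt A.Finf n)
  T i _ h := EtLim.HpullThen (tr Xs h) (A.F i) (A.φ h) n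
  π i := EtLim.HpullThen (pr Xs c i) (A.F i) (A.ψ i) n
  T_T i j k hij hjk x := by
    rw [A.cocycle hij hjk]
    exact HpullThen_comp _ _ _ _ (A.φ hij) (A.φ hjk) n x
  π_T i j h x := by
    rw [A.compat h]
    exact HpullThen_comp _ _ _ _ (A.φ h) (A.ψ j) n x

/-- continuity in a degree -/
def Cont (A : Sys Xs c) (n : ℕ) : Prop := (A.H n).IsColim

/-- morphisms of systems -/
structure Hom (A B : Sys Xs c) where
  a : ∀ i, A.F i ⟶ B.F i
  ainf : A.Finf ⟶ B.Finf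
  comm : ∀ ⦃i j : ι⦄ (h : i ≤ j), (EtCoh.pull (tr Xs h)).map (a i) ≫ B.φ h = A.φ h ≫ a j
  comm_inf : ∀ i : ι, (EtCoh.pull (pr Xs c i)).map (a i) ≫ B.ψ i = A.ψ i ≫ ainf

/-- induced morphism on cohomology -/
noncomputable def Hom.onH {A B : Sys Xs c} (f : Hom A B) (n : ℕ) : DSys.Hom (A.H n) (B.H n) where
  f i := ((EtCoh.HF (Xs.obj (op i)) n).map (f.a i)).hom
  finf := ((EtCoh.HF c.pt n).map f.ainf).hom
  comm i j h x := by
    refine (HpullThen_map_source _ (f.a i) (B.φ h) n x).symm.trans ?_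
    rw [f.comm h]
    exact HpullThen_map_target _ (A.φ h) (f.a j) n x
  comm_inf i x := by
    refine (HpullThen_map_source _ (f.a i) (B.ψ i) n x).symm.trans ?_
    rw [f.comm_inf i]
    exact HpullThen_map_target _ (A.ψ i) f.ainf n x

/-- short exact sequences of systems -/
structure SES (A B C : Sys Xs c) where
  f : Hom A B
  g : Hom B C
  w : ∀ i, f.a i ≫ g.a i = 0
  winf : f.ainf ≫ g.ainf = 0
  ex : ∀ i, (ShortComplex.mk _ _ (w i)).ShortExact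
  exinf : (ShortComplex.mk _ _ winf).ShortExact

variable {A B C : Sys Xs c} (S : SES A B C)

/-- the connecting morphism -/
noncomputable def SES.δ (n : ℕ) : DSys.Hom (C.H n) (A.H (n + 1)) where
  f i := (S.ex i).extClass.postcomp _ rfl
  finf := S.exinf.extClass.postcomp _ rfl
  comm i j h x := HpullThen_extClass (tr Xs h) (S.ex i) (S.ex j)
    { τ₁ := A.φ h, τ₂ := B.φ h, τ₃ := C.φ h
      comm₁₂ := (S.f.comm h).symm, comm₂₃ := (S.g.comm h).symm } n x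
  comm_inf i x := HpullThen_extClass (pr Xs c i) (S.ex i) S.exinf
    { τ₁ := A.ψ i, τ₂ := B.ψ i, τ₃ := C.ψ i
      comm₁₂ := (S.f.comm_inf i).symm, comm₂₃ := (S.g.comm_inf i).symm } n x

omit [Preorder ι] in
theorem exact_iff {P Q R : AddCommGrpCat.{u + 1}} {a : P ⟶ Q} {b : Q ⟶ R} {w : a ≫ b = 0}
    (h : (ShortComplex.mk a b w).Exact) (x : Q) : b x = 0 ↔ ∃ y, a y = x :=
  ((ShortComplex.ab_exact_iff_function_exact _).1 h) x

theorem SES.exactA (n : ℕ) : DSys.ExactPair (S.δ n) (S.f.onH (n + 1)) :=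
  ⟨fun i x => exact_iff (Ext.covariant_sequence_exact₁' _ (S.ex i) n (n + 1) rfl) x,
    fun x => exact_iff (Ext.covariant_sequence_exact₁' _ S.exinf n (n + 1) rfl) x⟩

theorem SES.exactB (n : ℕ) : DSys.ExactPair (S.f.onH n) (S.g.onH n) :=
  ⟨fun i x => exact_iff (Ext.covariant_sequence_exact₂' _ (S.ex i) n) x,
    fun x => exact_iff (Ext.covariant_sequence_exact₂' _ S.exinf n) x⟩

theorem SES.exactC (n : ℕ) : DSys.ExactPair (S.g.onH n) (S.δ n) :=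
  ⟨fun i x => exact_iff (Ext.covariant_sequence_exact₃' _ (S.ex i) n (n + 1) rfl) x,
    fun x => exact_iff (Ext.covariant_sequence_exact₃' _ S.exinf n (n + 1) rfl) x⟩

theorem postcomp_mk₀_eq_zero_iff {X : Scheme.{u}} {S : ShortComplex (EtCoh.Ab X)} (hS : S.ShortExact)
    (x : EtCoh.H X S.X₁ 0) : Ext.comp x (Ext.mk₀ S.f) (add_zero 0) = 0 ↔ x = 0 := by
  refine ⟨fun h => ?_, fun h => by rw [h, Ext.zero_comp]⟩
  obtain ⟨φ, rfl⟩ := (Ext.mk₀_bijective _ _).2 x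
  haveI := hS.mono_f
  rw [Ext.mk₀_comp_mk₀, Ext.mk₀_eq_zero_iff] at h
  rw [Ext.mk₀_eq_zero_iff]
  exact zero_of_comp_mono S.f h

theorem SES.exact_zero : DSys.ExactPair (DSys.zeroHom DSys.zero (A.H 0)) (S.f.onH 0) := by
  refine ⟨fun i x => ?_, fun x => ?_⟩
  · exact (postcomp_mk₀_eq_zero_iff (S.ex i) x).trans ⟨fun h => ⟨0, h.symm⟩, fun ⟨_, h⟩ => h.symm⟩
  · exact (postcomp_mk₀_eq_zero_iff S.exinf x).trans ⟨fun h => ⟨0, h.symm⟩, fun ⟨_, h⟩ => h.symm⟩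

theorem zero_exact (D : DSys.{u + 1} ι) :
    DSys.ExactPair (DSys.zeroHom DSys.zero DSys.zero) (DSys.zeroHom DSys.zero D) :=
  ⟨fun _ _ => ⟨fun _ => ⟨PUnit.unit, rfl⟩, fun _ => rfl⟩, fun _ => ⟨fun _ => ⟨PUnit.unit, rfl⟩, fun _ => rfl⟩⟩

variable [IsDirected ι (· ≤ ·)] [Nonempty ι]

include S

theorem SES.cont_left_zero (hB : B.Cont 0) (hC : (C.H 0).Inj) : A.Cont 0 :=
  ⟨DSys.five_surj S.exact_zero (S.exactB 0) DSys.zero_isColim.1 hB.1 (fun i y hy => hC i _ hy),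
    DSys.five_inj (zero_exact _) S.exact_zero DSys.zero_isColim.1 DSys.zero_isColim.2 hB.2⟩

theorem SES.cont_left_succ (n : ℕ) (hB : (B.H n).Surj) (hC : C.Cont n) (hB' : B.Cont (n + 1))
    (h5 : (C.H (n + 1)).Inj ∨ Subsingleton (EtCoh.H c.pt B.Finf (n + 1)) ∧
      ∀ i, Subsingleton (EtCoh.H (Xs.obj (op i)) (B.F i) (n + 1))) : A.Cont (n + 1) := by
  refine ⟨DSys.five_surj (S.exactA n) (S.exactB (n + 1)) hC.1 hB'.1 (fun i y hy => ?_),
    DSys.five_inj (S.exactC n) (S.exactA n) hB hC.2 hB'.2⟩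
  rcases h5 with h | ⟨-, h⟩
  · exact h i _ hy
  · have := h i
    have hy0 : y = 0 := Subsingleton.elim (α := EtCoh.H (Xs.obj (op i)) (B.F i) (n + 1)) y 0
    exact ⟨i, le_rfl, by rw [hy0, map_zero, map_zero]⟩

theorem SES.cont_middle_zero (hA : A.Cont 0) (hC : C.Cont 0) (hA' : (A.H 1).Inj) : B.Cont 0 :=
  ⟨DSys.five_surj (S.exactB 0) (S.exactC 0) hA.1 hC.1 (fun i y hy => hA' i _ hy),
    DSys.five_inj S.exact_zero (S.exactB 0) DSys.zero_isColim.1 hA.2 hC.2⟩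

theorem SES.cont_middle_succ (n : ℕ) (hC₀ : (C.H n).Surj) (hA : A.Cont (n + 1)) (hC : C.Cont (n + 1))
    (hA' : (A.H (n + 2)).Inj) : B.Cont (n + 1) :=
  ⟨DSys.five_surj (S.exactB (n + 1)) (S.exactC (n + 1)) hA.1 hC.1 (fun i y hy => hA' i _ hy),
    DSys.five_inj (S.exactA n) (S.exactB (n + 1)) hC₀ hA.2 hC.2⟩

theorem SES.cont_middle (hA : ∀ n, A.Cont n) (hC : ∀ n, C.Cont n) : ∀ n, B.Cont n
  | 0 => S.cont_middle_zero (hA 0) (hC 0) (hA 1).2
  | n + 1 => S.cont_middle_succ n (hC n).1 (hA _) (hC _) (hA _).2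

theorem SES.cont_left (hB : ∀ n, B.Cont n) (hC : ∀ n, C.Cont n) : ∀ n, A.Cont n
  | 0 => S.cont_left_zero (hB 0) (hC 0).2
  | n + 1 => S.cont_left_succ n (hB n).1 (hC n) (hB _) (Or.inl (hC _).2)

end Sys

end Groth.Agent.EtContLib
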