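import Groth.Agent.EtContLib.Die
import Mathlib.Algebra.Homology.ShortComplex.Exact

/-! pushed systems, kernels and cokernels of systems -/

universe u

open CategoryTheory CategoryTheory.Limits AlgebraicGeometry Opposite

namespace Groth.Agent.EtContLib

set_option backward.isDefEq.respectTransparency.types false

variable {X Y Z T : Scheme.{u}}

theorem bc_map_fst (f : X ⟶ Y) {U V : Y.Etale} (m : V ⟶ U) :
    ((EtCoh.bc f).map m).left ≫ pullback.fst U.hom f = pullback.fst V.hom f ≫ m.left :=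
  (EtCoh.isPullback_bc_map f m).w

theorem bcMap_assoc (f : X ⟶ Y) (g : Y ⟶ Z) (k : Z ⟶ T) (h₁ : X ⟶ Z) (h₂ : Y ⟶ T) (h : X ⟶ T)
    (w₁ : f ≫ g = h₁) (w₂ : g ≫ k = h₂) (w : f ≫ h₂ = h) (w' : h₁ ≫ k = h) (V : T.Etale) :
    bcMap f h₂ h w V ≫ (EtCoh.bc f).map (bcMap g k h₂ w₂ V) =
      bcMap h₁ k h w' V ≫ bcMap f g h₁ w₁ ((EtCoh.bc k).obj V) := by
  refine hom_bc_ext f g _ _ ?_
  have e1 : ((EtCoh.bc f).map (bcMap g k h₂ w₂ V)).left ≫ pullback.fst ((EtCoh.bc g).obj ((EtCoh.bc k).obj V)).hom f ≫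
      pullback.fst ((EtCoh.bc k).obj V).hom g =
      pullback.fst ((EtCoh.bc h₂).obj V).hom f ≫ (bcMap g k h₂ w₂ V).left ≫
        pullback.fst ((EtCoh.bc k).obj V).hom g :=
    (Category.assoc _ _ _).symm.trans ((eq_whisker (bc_map_fst f (bcMap g k h₂ w₂ V)) _).trans (Category.assoc _ _ _))
  have hL : ((bcMap f h₂ h w V ≫ (EtCoh.bc f).map (bcMap g k h₂ w₂ V)).left ≫
      pullback.fst ((EtCoh.bc g).obj ((EtCoh.bc k).obj V)).hom f ≫ pullback.fst ((EtCoh.bc k).obj V).hom g) =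
      (bcMap f h₂ h w V).left ≫ pullback.fst ((EtCoh.bc h₂).obj V).hom f ≫ (bcMap g k h₂ w₂ V).left ≫
        pullback.fst ((EtCoh.bc k).obj V).hom g :=
    (Category.assoc _ _ _).trans (whisker_eq _ e1)
  have hR : ((bcMap h₁ k h w' V ≫ bcMap f g h₁ w₁ ((EtCoh.bc k).obj V)).left ≫
      pullback.fst ((EtCoh.bc g).obj ((EtCoh.bc k).obj V)).hom f ≫ pullback.fst ((EtCoh.bc k).obj V).hom g) =
      (bcMap h₁ k h w' V).left ≫ pullback.fst ((EtCoh.bc k).obj V).hom h₁ :=
    (Category.assoc _ _ _).trans (whisker_eq _ (bcMap_fst f g h₁ w₁ ((EtCoh.bc k).obj V)))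
  refine hL.trans (Eq.trans ?_ hR.symm)
  have s1 : (bcMap g k h₂ w₂ V).left ≫ pullback.fst ((EtCoh.bc k).obj V).hom g ≫ pullback.fst V.hom k =
      pullback.fst V.hom h₂ := bcMap_fst g k h₂ w₂ V
  apply pullback.hom_ext
  · refine Eq.trans ?_ ((bcMap_fst h₁ k h w' V).symm.trans (Category.assoc _ _ _).symm)
    exact ((Category.assoc _ _ _).trans (whisker_eq _ ((Category.assoc _ _ _).trans
      (whisker_eq _ ((Category.assoc _ _ _).trans s1))))).trans (bcMap_fst f h₂ h w V)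
  · have c1 : pullback.fst ((EtCoh.bc k).obj V).hom g ≫ pullback.snd V.hom k =
        pullback.snd ((EtCoh.bc k).obj V).hom g ≫ g := pullback.condition
    have c2 : pullback.fst ((EtCoh.bc h₂).obj V).hom f ≫ pullback.snd V.hom h₂ =
        pullback.snd ((EtCoh.bc h₂).obj V).hom f ≫ f := pullback.condition
    have c3 : pullback.fst ((EtCoh.bc k).obj V).hom h₁ ≫ pullback.snd V.hom k =
        pullback.snd ((EtCoh.bc k).obj V).hom h₁ ≫ h₁ := pullback.condition
    have b1 : (bcMap g k h₂ w₂ V).left ≫ pullback.snd ((EtCoh.bc k).obj V).hom g = pullback.snd V.hom h₂ :=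
      pullback.lift_snd _ _ _
    have b2 : (bcMap f h₂ h w V).left ≫ pullback.snd ((EtCoh.bc h₂).obj V).hom f = pullback.snd V.hom h :=
      pullback.lift_snd _ _ _
    have b3 : (bcMap h₁ k h w' V).left ≫ pullback.snd ((EtCoh.bc k).obj V).hom h₁ = pullback.snd V.hom h :=
      pullback.lift_snd _ _ _
    have d1 : (bcMap g k h₂ w₂ V).left ≫ pullback.fst ((EtCoh.bc k).obj V).hom g ≫ pullback.snd V.hom k =
        pullback.snd V.hom h₂ ≫ g :=
      (whisker_eq _ c1).trans ((Category.assoc _ _ _).symm.trans (eq_whisker b1 g))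
    have d2 : pullback.fst ((EtCoh.bc h₂).obj V).hom f ≫ pullback.snd V.hom h₂ ≫ g =
        pullback.snd ((EtCoh.bc h₂).obj V).hom f ≫ f ≫ g :=
      (Category.assoc _ _ _).symm.trans ((eq_whisker c2 g).trans (Category.assoc _ _ _))
    have d3 : (bcMap f h₂ h w V).left ≫ pullback.snd ((EtCoh.bc h₂).obj V).hom f ≫ f ≫ g =
        pullback.snd V.hom h ≫ h₁ :=
      ((Category.assoc _ _ _).symm.trans (eq_whisker b2 _)).trans (whisker_eq _ w₁)
    have d4 : pullback.snd V.hom h ≫ h₁ =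
        (bcMap h₁ k h w' V).left ≫ pullback.fst ((EtCoh.bc k).obj V).hom h₁ ≫ pullback.snd V.hom k :=
      ((eq_whisker b3 h₁).symm.trans (Category.assoc _ _ _)).trans (whisker_eq _ c3.symm)
    refine (((Category.assoc _ _ _).trans (whisker_eq _ ((Category.assoc _ _ _).trans
      (whisker_eq _ ((Category.assoc _ _ _).trans d1)))))).trans ?_
    exact ((whisker_eq _ d2).trans (d3.trans d4)).trans (Category.assoc _ _ _).symm

theorem bcMap_natural (f : X ⟶ Y) (g : Y ⟶ Z) (h : X ⟶ Z) (w : f ≫ g = h) {V V' : Z.Etale} (m : V' ⟶ V) :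
    bcMap f g h w V' ≫ (EtCoh.bc f).map ((EtCoh.bc g).map m) = (EtCoh.bc h).map m ≫ bcMap f g h w V := by
  refine hom_bc_ext f g _ _ ?_
  have e1 : ((EtCoh.bc f).map ((EtCoh.bc g).map m)).left ≫ pullback.fst ((EtCoh.bc g).obj V).hom f ≫
      pullback.fst V.hom g = pullback.fst ((EtCoh.bc g).obj V').hom f ≫ pullback.fst V'.hom g ≫ m.left :=
    (Category.assoc _ _ _).symm.trans ((eq_whisker (bc_map_fst f ((EtCoh.bc g).map m)) _).trans
      ((Category.assoc _ _ _).trans (whisker_eq _ (bc_map_fst g m))))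
  refine ((Category.assoc _ _ _).trans ((whisker_eq _ e1).trans ?_)).trans
    ((Category.assoc _ _ _).trans ((whisker_eq _ (bcMap_fst f g h w V)).trans (bc_map_fst h m))).symm
  exact ((whisker_eq _ (Category.assoc _ _ _).symm).trans (Category.assoc _ _ _).symm).trans
    (eq_whisker (bcMap_fst f g h w V') _)

theorem comp2_assoc (f : X ⟶ Y) (g : Y ⟶ Z) (k : Z ⟶ T) (h₁ : X ⟶ Z) (h₂ : Y ⟶ T) (h : X ⟶ T)
    (w₁ : f ≫ g = h₁) (w₂ : g ≫ k = h₂) (w : f ≫ h₂ = h) (w' : h₁ ≫ k = h) {P : EtCoh.Ab T} {F : EtCoh.Ab Z}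
    {G : EtCoh.Ab Y} {M : EtCoh.Ab X} (a : (EtCoh.pull k).obj P ⟶ F) (b : (EtCoh.pull g).obj F ⟶ G)
    (d : (EtCoh.pull f).obj G ⟶ M) :
    comp2 f h₂ h w (comp2 g k h₂ w₂ a b) d = comp2 h₁ k h w' a (comp2 f g h₁ w₁ b d) := by
  refine ev_ext h fun V s => ?_
  rw [ev_comp2, ev_comp2, ev_comp2, ev_comp2, ev_natural, ← Functor.map_comp_apply, ← Functor.map_comp_apply,
    ← op_comp, ← op_comp]
  exact congrArg (fun m => M.obj.map (Quiver.Hom.op m) _) (bcMap_assoc f g k h₁ h₂ h w₁ w₂ w w' V)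

theorem pullbackCongr_refl_app (f : X ⟶ Y) (V : Y.Etale) :
    (MorphismProperty.Over.pullbackCongr (P := EtCoh.etaleMP) (Q := ⊤) (rfl : f = f)).hom.app V = 𝟙 _ ∧
      (MorphismProperty.Over.pullbackCongr (P := EtCoh.etaleMP) (Q := ⊤) (rfl : f = f)).inv.app V = 𝟙 _ := by
  constructor <;>
  · refine MorphismProperty.Over.Hom.ext ?_
    apply pullback.hom_ext <;> (simp [MorphismProperty.Over.pullbackCongr]; rfl)

/-- the transition `g⁻¹ h_* F → f_* F` for `f ≫ g = h` -/
noncomputable def pushTau (f : X ⟶ Y) (g : Y ⟶ Z) (h : X ⟶ Z) (w : f ≫ g = h) (F : EtCoh.Ab X) :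
    (EtCoh.pull g).obj ((EtCoh.push h).obj F) ⟶ (EtCoh.push f).obj F :=
  ((EtCoh.pullPushAdj g).homEquiv _ _).symm
    (((EtCoh.pushCongr w.symm).app F).hom ≫ (EtCoh.pushComp g f).inv.app F)

theorem comp2_pushTau (f : X ⟶ Y) (g : Y ⟶ Z) (h : X ⟶ Z) (w : f ≫ g = h) (F : EtCoh.Ab X) :
    comp2 f g h w (pushTau f g h w F) ((EtCoh.pullPushAdj f).counit.app F) =
      (EtCoh.pullPushAdj h).counit.app F := by
  subst w
  refine ((EtCoh.pullPushAdj (f ≫ g)).homEquiv _ _).injective ?_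
  rw [homEquiv_comp2, pushTau, Equiv.apply_symm_apply]
  have e1 : (EtCoh.pullPushAdj f).homEquiv _ _ ((EtCoh.pullPushAdj f).counit.app F) = 𝟙 _ := by
    simp [Adjunction.homEquiv_unit]
  have e2 : (EtCoh.pullPushAdj (f ≫ g)).homEquiv _ _ ((EtCoh.pullPushAdj (f ≫ g)).counit.app F) = 𝟙 _ := by
    simp [Adjunction.homEquiv_unit]
  have e3 : ((EtCoh.pushCongr (rfl : f ≫ g = f ≫ g)).app F).hom = 𝟙 _ := by
    refine Sheaf.hom_ext (NatTrans.ext (funext fun V => ?_))
    simp [EtCoh.pushCongr, Functor.sheafPushforwardContinuousIso, (pullbackCongr_refl_app (f ≫ g) V.unop).1,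
      (pullbackCongr_refl_app (f ≫ g) V.unop).2]
    exact F.obj.map_id _
  rw [e1, e2, CategoryTheory.Functor.map_id]
  simp only [Category.assoc, Category.id_comp]
  rw [e3, Category.id_comp]
  exact Iso.inv_hom_id_app _ _

theorem comp2_counit_injective (f : X ⟶ Y) (g : Y ⟶ Z) (h : X ⟶ Z) (w : f ≫ g = h) {G : EtCoh.Ab Z}
    {F : EtCoh.Ab X} {a b : (EtCoh.pull g).obj G ⟶ (EtCoh.push f).obj F}
    (e : comp2 f g h w a ((EtCoh.pullPushAdj f).counit.app F) = comp2 f g h w b ((EtCoh.pullPushAdj f).counit.app F)) :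
    a = b := by
  refine ev_ext g fun V s => ?_
  have := congrArg (fun m => ev h m V s) e
  simp only [ev_comp2, ev_counit] at this
  haveI hi : IsIso (F.obj.map (bcMap f g h w V).op) := inferInstance
  exact (ConcreteCategory.bijective_of_isIso (F.obj.map (bcMap f g h w V).op)).1 this

/-- descending to the pullback of a cokernel -/
theorem epi_pull_map (f : X ⟶ Y) {P Q : EtCoh.Ab Y} (m : P ⟶ Q) [Epi m] : Epi ((EtCoh.pull f).map m) :=
  haveI := Functor.preservesEpimorphisms_of_adjunction (EtCoh.pullPushAdj f)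
  inferInstance

namespace Sys

variable {ι : Type u} [Preorder ι] {Xs : ιᵒᵖ ⥤ Scheme.{u}} {c : Cone Xs}

variable (Xs c) in
/-- the direct images of a sheaf on the limit -/
noncomputable def pushed (F : EtCoh.Ab c.pt) : Sys Xs c where
  F i := (EtCoh.push (pr Xs c i)).obj F
  φ _ j h := pushTau (pr Xs c j) (tr Xs h) _ (pr_tr Xs c h) F
  cocycle i j k hij hjk := by
    refine comp2_counit_injective (pr Xs c k) (tr Xs (hij.trans hjk)) (pr Xs c i) (pr_tr Xs c _) ?_
    rw [comp2_pushTau, comp2_assoc (pr Xs c k) (tr Xs hjk) (tr Xs hij) (pr Xs c j) (tr Xs (hij.trans hjk))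
      (pr Xs c i) (pr_tr Xs c hjk) (tr_tr Xs hij hjk) (pr_tr Xs c _) (pr_tr Xs c hij), comp2_pushTau,
      comp2_pushTau]
  Finf := F
  ψ i := (EtCoh.pullPushAdj (pr Xs c i)).counit.app F
  compat _ j h := (comp2_pushTau (pr Xs c j) (tr Xs h) _ (pr_tr Xs c h) F).symm

/-- functoriality of direct image systems -/
noncomputable def pushedMap {F F' : EtCoh.Ab c.pt} (a : F ⟶ F') : Hom (pushed Xs c F) (pushed Xs c F') where
  a i := (EtCoh.push (pr Xs c i)).map a
  ainf := a
  comm i j h := by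
    refine comp2_counit_injective (pr Xs c j) (tr Xs h) (pr Xs c i) (pr_tr Xs c h) ?_
    have n1 := (EtCoh.pullPushAdj (pr Xs c i)).counit.naturality a
    have n2 := (EtCoh.pullPushAdj (pr Xs c j)).counit.naturality a
    simp only [Functor.comp_map, Functor.id_map] at n1 n2
    change comp2 (pr Xs c j) (tr Xs h) (pr Xs c i) (pr_tr Xs c h)
        ((EtCoh.pull (tr Xs h)).map ((EtCoh.push (pr Xs c i)).map a) ≫
          pushTau (pr Xs c j) (tr Xs h) (pr Xs c i) (pr_tr Xs c h) F') _ =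
      comp2 (pr Xs c j) (tr Xs h) (pr Xs c i) (pr_tr Xs c h)
        (pushTau (pr Xs c j) (tr Xs h) (pr Xs c i) (pr_tr Xs c h) F ≫ (EtCoh.push (pr Xs c j)).map a) _
    rw [comp2_comp_left, comp2_comp_mid, comp2_pushTau, n2, comp2_comp_right, comp2_pushTau, n1]
  comm_inf i := (EtCoh.pullPushAdj (pr Xs c i)).counit.naturality a

variable {A B : Sys Xs c} (f : Hom A B)

theorem coker_w {i j : ι} (h : i ≤ j) :
    (f.a i) ≫ (EtCoh.pullPushAdj (tr Xs h)).homEquiv _ _ (B.φ h ≫ cokernel.π (f.a j)) = 0 := by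
  rw [← Adjunction.homEquiv_naturality_left, ← Category.assoc, f.comm h, Category.assoc, cokernel.condition,
    comp_zero]
  simp [Adjunction.homEquiv_unit]

/-- transition maps of the cokernel -/
noncomputable def cokerφ {i j : ι} (h : i ≤ j) :
    (EtCoh.pull (tr Xs h)).obj (cokernel (f.a i)) ⟶ cokernel (f.a j) :=
  ((EtCoh.pullPushAdj (tr Xs h)).homEquiv _ _).symm (cokernel.desc _ _ (coker_w f h))

theorem π_cokerφ {i j : ι} (h : i ≤ j) :
    (EtCoh.pull (tr Xs h)).map (cokernel.π (f.a i)) ≫ cokerφ f h = B.φ h ≫ cokernel.π (f.a j) := by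
  rw [cokerφ, ← Adjunction.homEquiv_naturality_left_symm, cokernel.π_desc, Equiv.symm_apply_apply]

variable (Cinf : EtCoh.Ab c.pt) (q : B.Finf ⟶ Cinf) (hq : f.ainf ≫ q = 0)

include hq in
theorem coker_winf (i : ι) :
    (f.a i) ≫ (EtCoh.pullPushAdj (pr Xs c i)).homEquiv _ _ (B.ψ i ≫ q) = 0 := by
  rw [← Adjunction.homEquiv_naturality_left, ← Category.assoc, f.comm_inf i, Category.assoc, hq, comp_zero]
  simp [Adjunction.homEquiv_unit]

theorem π_cokerψ (l : ι) : (EtCoh.pull (pr Xs c l)).map (cokernel.π (f.a l)) ≫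
    ((EtCoh.pullPushAdj (pr Xs c l)).homEquiv _ _).symm (cokernel.desc _ _ (coker_winf f Cinf q hq l)) =
      B.ψ l ≫ q := by
  rw [← Adjunction.homEquiv_naturality_left_symm, cokernel.π_desc, Equiv.symm_apply_apply]

/-- the cokernel system -/
noncomputable def coker : Sys Xs c where
  F i := cokernel (f.a i)
  φ _ _ h := cokerφ f h
  cocycle i j k hij hjk := by
    haveI := epi_pull_map (tr Xs (hij.trans hjk)) (cokernel.π (f.a i))
    rw [← cancel_epi ((EtCoh.pull (tr Xs (hij.trans hjk))).map (cokernel.π (f.a i))), π_cokerφ,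
      ← comp2_comp_left, π_cokerφ, comp2_comp_mid, π_cokerφ, comp2_comp_right, ← B.cocycle hij hjk]
  Finf := Cinf
  ψ i := ((EtCoh.pullPushAdj (pr Xs c i)).homEquiv _ _).symm (cokernel.desc _ _ (coker_winf f Cinf q hq i))
  compat i j h := by
    haveI := epi_pull_map (pr Xs c i) (cokernel.π (f.a i))
    have e := π_cokerψ f Cinf q hq
    rw [← cancel_epi ((EtCoh.pull (pr Xs c i)).map (cokernel.π (f.a i))), e i, ← comp2_comp_left, π_cokerφ,
      comp2_comp_mid, e j, comp2_comp_right, ← B.compat h]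

/-- the projection to the cokernel system -/
noncomputable def cokerπ : Hom B (coker f Cinf q hq) where
  a i := cokernel.π (f.a i)
  ainf := q
  comm _ _ h := π_cokerφ f h
  comm_inf i := π_cokerψ f Cinf q hq i

/-- the short exact sequence of a monomorphism -/
noncomputable def cokerSES (hm : ∀ i, Mono (f.a i)) (hex : (ShortComplex.mk _ _ hq).ShortExact) :
    SES A B (coker f Cinf q hq) where
  f := f
  g := cokerπ f Cinf q hq
  w i := cokernel.condition _
  winf := hq
  ex i :=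
    { exact := ShortComplex.exact_of_g_is_cokernel _ (cokernelIsCokernel _)
      mono_f := hm i
      epi_g := inferInstanceAs (Epi (cokernel.π (f.a i))) }
  exinf := hex

variable {D : Sys Xs c}

/-- maps out of the cokernel system -/
noncomputable def cokerDesc (g : Hom B D) (w : ∀ i, f.a i ≫ g.a i = 0) (dinf : Cinf ⟶ D.Finf)
    (hd : q ≫ dinf = g.ainf) : Hom (coker f Cinf q hq) D where
  a i := cokernel.desc _ (g.a i) (w i)
  ainf := dinf
  comm i j h := by
    haveI := epi_pull_map (tr Xs h) (cokernel.π (f.a i))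
    refine (cancel_epi ((EtCoh.pull (tr Xs h)).map (cokernel.π (f.a i)))).1 ?_
    refine (((Category.assoc _ _ _).symm.trans (eq_whisker (((EtCoh.pull (tr Xs h)).map_comp _ _).symm.trans
      (congrArg (EtCoh.pull (tr Xs h)).map (cokernel.π_desc (f.a i) (g.a i) (w i)))) _)).trans (g.comm h)).trans ?_
    exact ((whisker_eq _ (cokernel.π_desc (f.a j) (g.a j) (w j)).symm).trans (Category.assoc _ _ _).symm).trans
      ((eq_whisker (π_cokerφ f h).symm _).trans (Category.assoc _ _ _))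
  comm_inf i := by
    haveI := epi_pull_map (pr Xs c i) (cokernel.π (f.a i))
    refine (cancel_epi ((EtCoh.pull (pr Xs c i)).map (cokernel.π (f.a i)))).1 ?_
    refine (((Category.assoc _ _ _).symm.trans (eq_whisker (((EtCoh.pull (pr Xs c i)).map_comp _ _).symm.trans
      (congrArg (EtCoh.pull (pr Xs c i)).map (cokernel.π_desc (f.a i) (g.a i) (w i)))) _)).trans (g.comm_inf i)).trans ?_
    exact ((whisker_eq _ hd.symm).trans (Category.assoc _ _ _).symm).trans
      ((eq_whisker (π_cokerψ f Cinf q hq i).symm _).trans (Category.assoc _ _ _))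

theorem ker_w {i j : ι} (h : i ≤ j) :
    ((EtCoh.pull (tr Xs h)).map (kernel.ι (f.a i)) ≫ A.φ h) ≫ f.a j = 0 := by
  rw [Category.assoc, ← f.comm h, ← Category.assoc, ← Functor.map_comp, kernel.condition, Functor.map_zero,
    zero_comp]

theorem ker_winf (i : ι) :
    ((EtCoh.pull (pr Xs c i)).map (kernel.ι (f.a i)) ≫ A.ψ i) ≫ f.ainf = 0 := by
  rw [Category.assoc, ← f.comm_inf i, ← Category.assoc, ← Functor.map_comp, kernel.condition, Functor.map_zero,
    zero_comp]

/-- the kernel system -/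
noncomputable def ker : Sys Xs c where
  F i := kernel (f.a i)
  φ _ _ h := kernel.lift _ _ (ker_w f h)
  cocycle i j k hij hjk := by
    rw [← cancel_mono (kernel.ι (f.a k)), kernel.lift_ι, ← comp2_comp_right, kernel.lift_ι, ← comp2_comp_mid,
      kernel.lift_ι, comp2_comp_left, ← A.cocycle hij hjk]
  Finf := kernel f.ainf
  ψ i := kernel.lift _ _ (ker_winf f i)
  compat i j h := by
    rw [← cancel_mono (kernel.ι f.ainf), kernel.lift_ι, ← comp2_comp_right, kernel.lift_ι, ← comp2_comp_mid,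
      kernel.lift_ι, comp2_comp_left, ← A.compat h]

/-- the inclusion of the kernel system -/
noncomputable def kerι : Hom (ker f) A where
  a i := kernel.ι (f.a i)
  ainf := kernel.ι f.ainf
  comm _ _ h := (kernel.lift_ι _ _ (ker_w f h)).symm
  comm_inf i := (kernel.lift_ι _ _ (ker_winf f i)).symm

end Sys

end Groth.Agent.EtContLib
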