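import Groth.Agent.EtContLib.Germs
import Groth.Agent.EtContLib.Pushed

/-! from the limit of an affine étale scheme to its stages, and dying detected on the limit -/

universe u

open CategoryTheory CategoryTheory.Limits AlgebraicGeometry Opposite

namespace Groth.Agent.EtContLib

set_option backward.isDefEq.respectTransparency.types false

variable {X Y Z T : Scheme.{u}}

/-- the projection `V ×_Z X ⟶ V ×_Z Y` -/
noncomputable def toStage (f : X ⟶ Y) (g : Y ⟶ Z) (h : X ⟶ Z) (w : f ≫ g = h) (V : Z.Etale) :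
    ((EtCoh.bc h).obj V).left ⟶ ((EtCoh.bc g).obj V).left :=
  (bcMap f g h w V).left ≫ pullback.fst ((EtCoh.bc g).obj V).hom f

theorem toStage_fst (f : X ⟶ Y) (g : Y ⟶ Z) (h : X ⟶ Z) (w : f ≫ g = h) (V : Z.Etale) :
    toStage f g h w V ≫ pullback.fst V.hom g = pullback.fst V.hom h :=
  (Category.assoc _ _ _).trans (bcMap_fst f g h w V)

theorem toStage_natural (f : X ⟶ Y) (g : Y ⟶ Z) (h : X ⟶ Z) (w : f ≫ g = h) {V V' : Z.Etale} (m : V' ⟶ V) :
    toStage f g h w V' ≫ ((EtCoh.bc g).map m).left = ((EtCoh.bc h).map m).left ≫ toStage f g h w V := by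
  have e := congrArg (fun q => q.left ≫ pullback.fst ((EtCoh.bc g).obj V).hom f) (bcMap_natural f g h w m)
  refine ((Category.assoc _ _ _).trans ((whisker_eq _ (bc_map_fst f ((EtCoh.bc g).map m)).symm).trans
    (Category.assoc _ _ _).symm)).trans (e.trans (Category.assoc _ _ _))

theorem toStage_assoc (f : X ⟶ Y) (g : Y ⟶ Z) (k : Z ⟶ T) (h₁ : X ⟶ Z) (h₂ : Y ⟶ T) (h : X ⟶ T)
    (w₁ : f ≫ g = h₁) (w₂ : g ≫ k = h₂) (w : f ≫ h₂ = h) (w' : h₁ ≫ k = h) (V : T.Etale) :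
    toStage f h₂ h w V ≫ toStage g k h₂ w₂ V = toStage h₁ k h w' V := by
  have e := congrArg (fun q => q.left ≫ pullback.fst ((EtCoh.bc g).obj ((EtCoh.bc k).obj V)).hom f ≫
    pullback.fst ((EtCoh.bc k).obj V).hom g) (bcMap_assoc f g k h₁ h₂ h w₁ w₂ w w' V)
  refine Eq.trans ?_ (e.trans ((Category.assoc _ _ _).trans
    (whisker_eq _ (bcMap_fst f g h₁ w₁ ((EtCoh.bc k).obj V)))))
  refine Eq.symm ((Category.assoc _ _ _).trans ((whisker_eq _ ((Category.assoc _ _ _).symm.trans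
    ((eq_whisker (bc_map_fst f (bcMap g k h₂ w₂ V)) _).trans (Category.assoc _ _ _)))).trans ?_))
  exact (Category.assoc _ _ _).symm

theorem toStage_bcMap (f : X ⟶ Y) (g : Y ⟶ Z) (k : Z ⟶ T) (h₁ : X ⟶ Z) (h₂ : Y ⟶ T) (h : X ⟶ T)
    (w₁ : f ≫ g = h₁) (w₂ : g ≫ k = h₂) (w : f ≫ h₂ = h) (w' : h₁ ≫ k = h) (V : T.Etale) :
    toStage f h₂ h w V ≫ (bcMap g k h₂ w₂ V).left =
      (bcMap h₁ k h w' V).left ≫ toStage f g h₁ w₁ ((EtCoh.bc k).obj V) := by
  have e := congrArg (fun q => q.left ≫ pullback.fst ((EtCoh.bc g).obj ((EtCoh.bc k).obj V)).hom f)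
    (bcMap_assoc f g k h₁ h₂ h w₁ w₂ w w' V)
  refine ((Category.assoc _ _ _).trans ((whisker_eq _ (bc_map_fst f (bcMap g k h₂ w₂ V)).symm).trans
    (Category.assoc _ _ _).symm)).trans (e.trans (Category.assoc _ _ _))

theorem hom_congr_apply {S S' : Scheme.{u}} {a b : S ⟶ S'} (e : a = b) (x : S) : a x = b x := by rw [e]

theorem map_injective_of_isIso {M : EtCoh.Ab X} {U V : X.Etale} (m : V ⟶ U) [IsIso m] :
    Function.Injective (M.obj.map m.op) :=
  (ConcreteCategory.bijective_of_isIso (M.obj.map m.op)).1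

/-- a section vanishing on an object vanishes on everything mapping into its image -/
theorem map_eq_zero_of_range_subset {M : EtCoh.Ab X} {U S O : X.Etale} (m : S ⟶ U) (o : O ⟶ U)
    (d : M.obj.obj (op U)) (hd : M.obj.map o.op d = 0) (hr : ∀ x, m.left x ∈ Set.range o.left) :
    M.obj.map m.op d = 0 := by
  refine EtTorLib.eq_zero_of_locally _ fun x => ?_
  obtain ⟨y, hy⟩ := hr x
  obtain ⟨t, ht, -⟩ := Scheme.Pullback.exists_preimage_pullback (f := m.left) (g := o.left) x y hy.symm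
  haveI := EtFound.etale_left o
  haveI : AlgebraicGeometry.Etale (pullback.fst m.left o.left) :=
    MorphismProperty.pullback_fst (P := @AlgebraicGeometry.Etale) _ _ ‹AlgebraicGeometry.Etale o.left›
  let m' : S.left ⟶ U.left := m.left
  let o' : O.left ⟶ U.left := o.left
  haveI : AlgebraicGeometry.Etale (pullback.fst m' o') := ‹AlgebraicGeometry.Etale (pullback.fst m.left o.left)›
  let SO : S.left.Etale := Scheme.Etale.mk (pullback.fst m' o')
  haveI : AlgebraicGeometry.Etale S.hom := S.prop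
  let P : X.Etale := Scheme.Etale.mk (pullback.fst m' o' ≫ S.hom)
  let p₁ : P ⟶ S := MorphismProperty.Over.homMk (pullback.fst m' o') rfl trivial
  let p₂ : P ⟶ O := MorphismProperty.Over.homMk (pullback.snd m' o')
    (((whisker_eq _ (MorphismProperty.Over.w o).symm).trans
      ((Category.assoc _ _ _).symm.trans ((eq_whisker pullback.condition.symm _).trans
        ((Category.assoc _ _ _).trans (whisker_eq _ (MorphismProperty.Over.w m))))))) trivial
  have hp : p₁ ≫ m = p₂ ≫ o := MorphismProperty.Over.Hom.ext pullback.condition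
  refine ⟨P, p₁, t, ?_, ht⟩
  rw [← Functor.map_comp_apply, ← op_comp, hp, op_comp, Functor.map_comp_apply, hd, map_zero]

namespace Sys

variable {ι : Type u} [Preorder ι] {Xs : ιᵒᵖ ⥤ Scheme.{u}} {c : Cone Xs} (A : Sys Xs c)

theorem ev_φ_trans {i j k : ι} (hij : i ≤ j) (hjk : j ≤ k) (W : (Xs.obj (op i)).Etale)
    (s : (A.F i).obj.obj (op W)) :
    ev (tr Xs (hij.trans hjk)) (A.φ (hij.trans hjk)) W s =
      (A.F k).obj.map (bcMap (tr Xs hjk) (tr Xs hij) _ (tr_tr Xs hij hjk) W).op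
        (ev (tr Xs hjk) (A.φ hjk) _ (ev (tr Xs hij) (A.φ hij) W s)) := by
  rw [A.cocycle hij hjk, ev_comp2]

theorem ev_ψ_trans {i j : ι} (h : i ≤ j) (W : (Xs.obj (op i)).Etale) (s : (A.F i).obj.obj (op W)) :
    ev (pr Xs c i) (A.ψ i) W s = A.Finf.obj.map (bcMap (pr Xs c j) (tr Xs h) _ (pr_tr Xs c h) W).op
      (ev (pr Xs c j) (A.ψ j) _ (ev (tr Xs h) (A.φ h) W s)) := by
  rw [A.compat h, ev_comp2]

theorem ev_φ_trans_eq_zero_iff {i j k : ι} (hij : i ≤ j) (hjk : j ≤ k) (W : (Xs.obj (op i)).Etale)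
    (s : (A.F i).obj.obj (op W)) :
    ev (tr Xs (hij.trans hjk)) (A.φ (hij.trans hjk)) W s = 0 ↔
      ev (tr Xs hjk) (A.φ hjk) _ (ev (tr Xs hij) (A.φ hij) W s) = 0 := by
  rw [ev_φ_trans]
  exact ⟨fun h => map_injective_of_isIso _ (h.trans (map_zero _).symm), fun h => by rw [h, map_zero]⟩

variable [Nonempty ι] [IsDirected ι (· ≤ ·)] (haff : ∀ ⦃a b : ιᵒᵖ⦄ (h : a ⟶ b), IsAffineHom (Xs.map h))
  (hc : IsLimit c)

include haff hc in
/-- a section dying near the image of the limit dies -/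
theorem exists_die_of_limit_image {j : ι} (W : (Xs.obj (op j)).Etale) [IsAffine W.left]
    (r : (A.F j).obj.obj (op W))
    (h : ∀ z : ((EtCoh.bc (pr Xs c j)).obj W).left, ∃ (V : (Xs.obj (op j)).Etale) (g : V ⟶ W) (v : V.left),
      g.left v = pullback.fst W.hom (pr Xs c j) z ∧
      ∃ (k : ι) (hk : j ≤ k), ev (tr Xs hk) (A.φ hk) V ((A.F j).obj.map g.op r) = 0) :
    ∃ (k : ι) (hk : j ≤ k), ev (tr Xs hk) (A.φ hk) W r = 0 := by
  choose V g v hv k hk hdie using h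
  let U : W.left.Opens := ⟨⋃ z, Set.range (g z).left, isOpen_iUnion fun z => by
    haveI := EtFound.etale_left (g z)
    exact (g z).left.isOpenMap.isOpen_range⟩
  obtain ⟨k₀, h₀, hU⟩ := exists_stage_subset Xs c j W haff hc U fun z => Set.mem_iUnion.2 ⟨z, v z, hv z⟩
  haveI : IsAffine ((EtCoh.bc (tr Xs h₀)).obj W).left := isAffine_wDiag Xs j W haff (overMk j h₀)
  obtain ⟨k₁, h₁, h'⟩ := exists_die_of_locally A (ev (tr Xs h₀) (A.φ h₀) W r) fun y => by
    obtain ⟨z, v', hv'⟩ := Set.mem_iUnion.1 (hU y)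
    obtain ⟨w, hw⟩ := exists_bc_preimage (tr Xs h₀) (g z) y v' hv'
    obtain ⟨K, hK₀, hKz⟩ := exists_ge_ge k₀ (k z)
    refine ⟨(EtCoh.bc (tr Xs h₀)).obj (V z), (EtCoh.bc (tr Xs h₀)).map (g z), w, hw, K, hK₀, ?_⟩
    rw [← ev_natural]
    exact (ev_φ_trans_eq_zero_iff A h₀ hK₀ (V z) _).1 (die_mono A (hk z) hKz (V z) _ (hdie z))
  exact ⟨k₁, h₀.trans h₁, (ev_φ_trans_eq_zero_iff A h₀ h₁ W r).2 h'⟩

include haff hc in
/-- a section dying on pieces of stages covering the limit dies -/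
theorem exists_die_of_stage_pieces {j : ι} (W : (Xs.obj (op j)).Etale) [IsAffine W.left]
    (r : (A.F j).obj.obj (op W))
    (h : ∀ z : ((EtCoh.bc (pr Xs c j)).obj W).left, ∃ (k : ι) (hk : j ≤ k) (Q : (Xs.obj (op k)).Etale)
      (p : Q ⟶ (EtCoh.bc (tr Xs hk)).obj W) (v : Q.left),
      p.left v = toStage (pr Xs c k) (tr Xs hk) (pr Xs c j) (pr_tr Xs c hk) W z ∧
      (A.F k).obj.map p.op (ev (tr Xs hk) (A.φ hk) W r) = 0) :
    ∃ (k : ι) (hk : j ≤ k), ev (tr Xs hk) (A.φ hk) W r = 0 := by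
  classical
  choose k hk Q p v hv hp using h
  haveI : IsAffine ((EtCoh.bc (pr Xs c j)).obj W).left := isAffine_wCone Xs c j W haff hc
  let O : ∀ z, Set ((EtCoh.bc (pr Xs c j)).obj W).left := fun z =>
    (toStage (pr Xs c (k z)) (tr Xs (hk z)) (pr Xs c j) (pr_tr Xs c (hk z)) W).base ⁻¹' Set.range (p z).left
  obtain ⟨t, ht⟩ := isCompact_univ.elim_finite_subcover O
    (fun z => by
      haveI := EtFound.etale_left (p z)
      exact ((p z).left.isOpenMap.isOpen_range).preimage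
        (toStage (pr Xs c (k z)) (tr Xs (hk z)) (pr Xs c j) (pr_tr Xs c (hk z)) W).base.hom.continuous)
    (fun z _ => Set.mem_iUnion.2 ⟨z, v z, hv z⟩)
  obtain ⟨K, hK⟩ := Finset.exists_le (α := ι) (insert j (t.image k))
  have hjK : j ≤ K := hK j (Finset.mem_insert_self _ _)
  haveI : IsAffine ((EtCoh.bc (tr Xs hjK)).obj W).left := isAffine_wDiag Xs j W haff (overMk j hjK)
  obtain ⟨k₁, h₁, h'⟩ := exists_die_of_limit_image A haff hc _ (ev (tr Xs hjK) (A.φ hjK) W r) fun z' => by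
    let B := bcMap (pr Xs c K) (tr Xs hjK) (pr Xs c j) (pr_tr Xs c hjK) W
    let z : ((EtCoh.bc (pr Xs c j)).obj W).left := (inv B).left z'
    have hBz : B.left z = z' := by
      have e : (inv B).left ≫ B.left = 𝟙 _ := congrArg (fun q => q.left) (IsIso.inv_hom_id B)
      exact (Scheme.Hom.comp_apply _ _ z').symm.trans (hom_congr_apply e z')
    obtain ⟨x, hx, v', hv'⟩ := Set.mem_iUnion₂.1 (ht (Set.mem_univ z))
    have hxK : k x ≤ K := hK _ (Finset.mem_insert_of_mem (Finset.mem_image_of_mem k hx))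
    let B' := bcMap (tr Xs hxK) (tr Xs (hk x)) (tr Xs hjK) (tr_tr Xs (hk x) hxK) W
    let y := pullback.fst ((EtCoh.bc (tr Xs hjK)).obj W).hom (pr Xs c K) z'
    have hy : y = toStage (pr Xs c K) (tr Xs hjK) (pr Xs c j) (pr_tr Xs c hjK) W z :=
      (congrArg (fun q => pullback.fst ((EtCoh.bc (tr Xs hjK)).obj W).hom (pr Xs c K) q) hBz.symm).trans
        (Scheme.Hom.comp_apply _ _ z).symm
    have hy' : (p x).left v' = pullback.fst ((EtCoh.bc (tr Xs (hk x))).obj W).hom (tr Xs hxK) (B'.left y) := by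
      refine hv'.trans ?_
      rw [hy]
      refine Eq.trans ?_ (Scheme.Hom.comp_apply B'.left (pullback.fst _ _) _)
      refine Eq.trans ?_ (Scheme.Hom.comp_apply _ (toStage (tr Xs hxK) (tr Xs (hk x)) _ (tr_tr Xs (hk x) hxK) W) z)
      exact hom_congr_apply (toStage_assoc (pr Xs c K) (tr Xs hxK) (tr Xs (hk x)) (pr Xs c (k x))
        (tr Xs hjK) (pr Xs c j) (pr_tr Xs c hxK) (tr_tr Xs (hk x) hxK) (pr_tr Xs c hjK) (pr_tr Xs c (hk x)) W).symm z
    obtain ⟨w, hw⟩ := exists_bc_preimage (tr Xs hxK) (p x) (B'.left y) v' hy'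
    refine ⟨(EtCoh.bc (tr Xs hxK)).obj (Q x), (EtCoh.bc (tr Xs hxK)).map (p x) ≫ inv B', w, ?_, K, le_rfl, ?_⟩
    · have e : B'.left ≫ (inv B').left = 𝟙 _ := congrArg (fun q => q.left) (IsIso.hom_inv_id B')
      refine (Scheme.Hom.comp_apply _ _ w).trans ((congrArg _ hw).trans ?_)
      exact (Scheme.Hom.comp_apply _ _ y).symm.trans (hom_congr_apply e y)
    · have e1 : (A.F K).obj.map ((EtCoh.bc (tr Xs hxK)).map (p x) ≫ inv B').op
          (ev (tr Xs hjK) (A.φ hjK) W r) = 0 := by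
        rw [show ev (tr Xs hjK) (A.φ hjK) W r = (A.F K).obj.map B'.op
            (ev (tr Xs hxK) (A.φ hxK) _ (ev (tr Xs (hk x)) (A.φ (hk x)) W r)) from ev_φ_trans A (hk x) hxK W r,
          ← Functor.map_comp_apply, ← op_comp, Category.assoc, IsIso.inv_hom_id, Category.comp_id, ← ev_natural,
          hp x, ev_map_zero]
      rw [e1, ev_map_zero]
  exact ⟨k₁, hjK.trans h₁, (ev_φ_trans_eq_zero_iff A hjK h₁ W r).2 h'⟩

end Sys

end Groth.Agent.EtContLib
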